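import Mathlib
import Cfsg.Prelude.Def_LieRecognition

/-!
An involution acting on a subgroup of odd order: square roots, the decomposition
`X = C_X(t) · I_X(t)`, and generation by centralisers of a four-group.
-/

set_option autoImplicit false

namespace CfsgLib.Recog

variable {G : Type*} [Group G]

/-- The square root of an element of odd order. -/
noncomputable def oddRoot (x : G) : G := x ^ ((orderOf x + 1) / 2)

theorem oddRoot_sq {x : G} (h : Odd (orderOf x)) : oddRoot x * oddRoot x = x := by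
  obtain ⟨m, hm⟩ := h
  have : (orderOf x + 1) / 2 + (orderOf x + 1) / 2 = orderOf x + 1 := by omega
  rw [oddRoot, ← pow_add, this, pow_succ, pow_orderOf_eq_one, one_mul]

theorem oddRoot_mem {H : Subgroup G} {x : G} (h : x ∈ H) : oddRoot x ∈ H := H.pow_mem h _

theorem oddRoot_conj (g x : G) : oddRoot (g * x * g⁻¹) = g * oddRoot x * g⁻¹ := by
  have : orderOf (g * x * g⁻¹) = orderOf x := by
    rw [← MulAut.conj_apply, MulEquiv.orderOf_eq]
  rw [oddRoot, oddRoot, this, ← MulAut.conj_apply, ← MulAut.conj_apply, map_pow]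

theorem oddRoot_inv (x : G) : oddRoot x⁻¹ = (oddRoot x)⁻¹ := by
  rw [oddRoot, oddRoot, orderOf_inv, inv_pow]

theorem eq_oddRoot {x y : G} (h : Odd (orderOf y)) (hxy : y * y = x) : oddRoot x = y := by
  obtain ⟨m, hm⟩ := h
  subst hxy
  have hord : orderOf (y * y) = orderOf y := by
    rw [← pow_two, Nat.Coprime.orderOf_pow]
    rw [hm]
    exact (Nat.coprime_two_right).2 ⟨m, rfl⟩
  rw [oddRoot, hord, ← pow_two, ← pow_mul, show 2 * ((orderOf y + 1) / 2) = orderOf y + 1 by omega,
    pow_succ, pow_orderOf_eq_one, one_mul]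

theorem odd_orderOf [Finite G] {H : Subgroup G} (hH : Odd (Nat.card H)) {x : G} (hx : x ∈ H) :
    Odd (orderOf x) :=
  hH.of_dvd_nat (Subgroup.orderOf_dvd_natCard H hx)

theorem eq_of_sq_eq [Finite G] {H : Subgroup G} (hH : Odd (Nat.card H)) {x y : G} (hx : x ∈ H)
    (hy : y ∈ H) (h : x * x = y * y) : x = y :=
  (eq_oddRoot (odd_orderOf hH hx) rfl).symm.trans (h ▸ eq_oddRoot (odd_orderOf hH hy) rfl)

theorem eq_one_of_sq [Finite G] {H : Subgroup G} (hH : Odd (Nat.card H)) {x : G} (hx : x ∈ H)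
    (h : x * x = 1) : x = 1 :=
  eq_of_sq_eq hH hx H.one_mem (by rw [h, mul_one])

/-- An element of odd order commutes with whatever commutes with its square. -/
theorem commute_of_sq {x g : G} (h : Odd (orderOf x)) (hg : g * (x * x) = x * x * g) :
    g * x = x * g := by
  have : g * x * g⁻¹ = x := by
    rw [← eq_oddRoot h rfl, ← oddRoot_conj, hg, mul_inv_cancel_right]
  exact mul_inv_eq_iff_eq_mul.1 this

/-- In a group of odd order only the identity is conjugate to its inverse. -/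
theorem eq_one_of_conj_inv [Finite G] {H : Subgroup G} (hH : Odd (Nat.card H)) {x g : G}
    (hx : x ∈ H) (hg : g ∈ H) (h : g * x * g⁻¹ = x⁻¹) : x = 1 := by
  have h2 : x * (g * g) = g * g * x := by
    have hi : g * x⁻¹ * g⁻¹ = x := by
      have := congrArg Inv.inv h
      simpa [mul_assoc] using this
    have h3 : g * (g * x * g⁻¹) * g⁻¹ = x := by rw [h, hi]
    calc x * (g * g) = g * (g * x * g⁻¹) * g⁻¹ * (g * g) := by rw [h3]
      _ = g * g * x := by group
  have h1 : x * g = g * x := commute_of_sq (odd_orderOf hH hg) h2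
  rw [← h1, mul_inv_cancel_right] at h
  exact eq_one_of_sq hH hx (mul_eq_one_iff_eq_inv.2 h)

variable {t : G} {X : Subgroup G}

/-- The element inverted by `t` attached to `x`. -/
noncomputable def invPart (t x : G) : G := oddRoot (t * x⁻¹ * t * x)

theorem mem_invertedBy_iff (ht : t * t = 1) {x : G} :
    x ∈ Cfsg.invertedBy X t ↔ x ∈ X ∧ t * x * t = x⁻¹ := by
  simp only [Cfsg.invertedBy, Set.mem_ofPred_eq, inv_eq_of_mul_eq_one_right ht]

theorem conj_mem_of (ht : t * t = 1) (hn : ∀ x ∈ X, t * x * t ∈ X) {x : G} :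
    t * x * t ∈ X ↔ x ∈ X :=
  ⟨fun h => by simpa [mul_assoc, ht, ← mul_assoc t t, mul_one, one_mul] using hn _ h, hn x⟩

variable [Finite G] (ht : t * t = 1) (hn : ∀ x ∈ X, t * x * t ∈ X) (hodd : Odd (Nat.card X))

include ht hn hodd in
theorem invPart_spec {x : G} (hx : x ∈ X) :
    invPart t x ∈ Cfsg.invertedBy X t ∧ x * (invPart t x)⁻¹ ∈ X ⊓ Subgroup.centralizer {t} := by
  have hy : t * x⁻¹ * t * x ∈ X := X.mul_mem (hn _ (X.inv_mem hx)) hx
  have hk : invPart t x ∈ X := oddRoot_mem hy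
  have hk2 : invPart t x * invPart t x = t * x⁻¹ * t * x := oddRoot_sq (odd_orderOf hodd hy)
  have hti : t⁻¹ = t := inv_eq_of_mul_eq_one_right ht
  have hinv : t * invPart t x * t = (invPart t x)⁻¹ := by
    refine eq_of_sq_eq hodd (hn _ hk) (X.inv_mem hk) ?_
    rw [← mul_inv_rev, hk2]
    simp only [mul_inv_rev, inv_inv, hti, mul_assoc]
    simp only [← mul_assoc t t, ht, one_mul]
    rw [← mul_assoc (invPart t x) (invPart t x), hk2]
    simp only [mul_assoc, ← mul_assoc t t, ht, one_mul]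
  refine ⟨(mem_invertedBy_iff ht).2 ⟨hk, hinv⟩,
    X.mul_mem hx (X.inv_mem hk), Subgroup.mem_centralizer_singleton_iff.2 ?_⟩
  generalize invPart t x = k at hk hk2 hinv
  have hkinv : t * k⁻¹ * t = k := by
    have := congrArg Inv.inv hinv
    simpa [hti, mul_assoc] using this
  have h1 : t * (x * k⁻¹) * t = x * k⁻¹ := by
    have : t * (x * k⁻¹) * t = (t * x * t) * (t * k⁻¹ * t) := by
      simp only [mul_assoc, ← mul_assoc t t, ht, one_mul]
    rw [this, hkinv, eq_mul_inv_iff_mul_eq, mul_assoc, hk2]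
    simp only [mul_assoc, ← mul_assoc t t, ht, one_mul, mul_inv_cancel_left]
  calc x * k⁻¹ * t = t * (x * k⁻¹) * t * t := by rw [h1]
    _ = t * (x * k⁻¹) := by rw [mul_assoc _ t t, ht, mul_one]

include ht hodd in
theorem invPart_unique {c k : G} (hc : c ∈ X ⊓ Subgroup.centralizer {t})
    (hk : k ∈ Cfsg.invertedBy X t) : invPart t (c * k) = k := by
  obtain ⟨hkX, hkt⟩ := (mem_invertedBy_iff ht).1 hk
  have hct := Subgroup.mem_centralizer_singleton_iff.1 hc.2
  refine eq_oddRoot (odd_orderOf hodd hkX) ?_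
  have hkinv : t * k⁻¹ * t = k := by
    have := congrArg Inv.inv hkt
    simpa [inv_eq_of_mul_eq_one_right ht, mul_assoc] using this
  have : t * c⁻¹ = c⁻¹ * t :=
    (Commute.inv_right (show Commute t c from hct.symm)).eq
  rw [mul_inv_rev, show t * (k⁻¹ * c⁻¹) * t * (c * k) = t * k⁻¹ * (c⁻¹ * t) * (c * k) by group,
    ← this]
  calc k * k = t * k⁻¹ * t * k := by rw [hkinv]
    _ = t * k⁻¹ * (t * c⁻¹) * (c * k) := by group

include ht hn hodd in
theorem existsUnique_decomp {x : G} (hx : x ∈ X) :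
    ∃! p : G × G, p.1 ∈ X ⊓ Subgroup.centralizer {t} ∧ p.2 ∈ Cfsg.invertedBy X t ∧ x = p.1 * p.2 := by
  obtain ⟨h1, h2⟩ := invPart_spec ht hn hodd hx
  refine ⟨(x * (invPart t x)⁻¹, invPart t x), ⟨h2, h1, (inv_mul_cancel_right _ _).symm⟩, ?_⟩
  rintro ⟨c, k⟩ ⟨hc, hk, rfl⟩
  have := invPart_unique ht hodd hc hk
  ext <;> simp [this]

include ht hn hodd in
theorem card_decomp :
    Nat.card X = Nat.card ↥(X ⊓ Subgroup.centralizer {t}) * Nat.card (Cfsg.invertedBy X t) := by
  rw [← Nat.card_prod]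
  refine (Nat.card_congr (Equiv.ofBijective
    (fun p => (⟨p.1.1 * p.2.1, X.mul_mem p.1.2.1 ((mem_invertedBy_iff ht).1 p.2.2).1⟩ : X)) ⟨?_, ?_⟩)).symm
  · rintro ⟨⟨c, hc⟩, k, hk⟩ ⟨⟨c', hc'⟩, k', hk'⟩ h
    have h' : c * k = c' * k' := congrArg Subtype.val h
    obtain ⟨p, -, hu⟩ := existsUnique_decomp ht hn hodd
      (X.mul_mem hc.1 ((mem_invertedBy_iff ht).1 hk).1)
    have := (hu (c, k) ⟨hc, hk, rfl⟩).trans (hu (c', k') ⟨hc', hk', h'⟩).symm
    rw [Prod.mk.injEq] at this
    obtain ⟨rfl, rfl⟩ := this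
    rfl
  · rintro ⟨x, hx⟩
    obtain ⟨h1, h2⟩ := invPart_spec ht hn hodd hx
    exact ⟨(⟨_, h2⟩, ⟨_, h1⟩), Subtype.ext (inv_mul_cancel_right _ _)⟩

/-- An odd order subgroup normalised by a four group is generated by the three centralisers. -/
theorem le_of_fourGroup {H L : Subgroup G} {x y : G} (hodd' : Odd (Nat.card H))
    (hx : x * x = 1) (hy : y * y = 1) (hxy : x * y = y * x)
    (hnx : ∀ h ∈ H, x * h * x ∈ H) (hny : ∀ h ∈ H, y * h * y ∈ H)
    (h1 : H ⊓ Subgroup.centralizer {x} ≤ L) (h2 : H ⊓ Subgroup.centralizer {y} ≤ L)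
    (h3 : H ⊓ Subgroup.centralizer {x * y} ≤ L) : H ≤ L := by
  intro n hn'
  obtain ⟨hk, hc⟩ := invPart_spec hx hnx hodd' hn'
  obtain ⟨hkH, hkx⟩ := (mem_invertedBy_iff hx).1 hk
  suffices invPart x n ∈ L by
    simpa using L.mul_mem (h1 hc) this
  generalize invPart x n = k at hkH hkx
  have hxi : x⁻¹ = x := inv_eq_of_mul_eq_one_right hx
  have hyi : y⁻¹ = y := inv_eq_of_mul_eq_one_right hy
  set l := y * k * y with hl
  have hlH : l ∈ H := hny _ hkH
  have hlx : x * l * x = l⁻¹ := by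
    have hyx : y * x = x * y := hxy.symm
    calc x * (y * k * y) * x = (x * y) * k * (y * x) := by group
      _ = (y * x) * k * (x * y) := by rw [hyx]
      _ = y * (x * k * x) * y := by group
      _ = (y * k * y)⁻¹ := by rw [hkx, mul_inv_rev, mul_inv_rev, hyi]; group
  set s := oddRoot (k * l) with hs
  have hs2 : s * s = k * l := oddRoot_sq (odd_orderOf hodd' (H.mul_mem hkH hlH))
  set w := s * l⁻¹ with hw
  have hwH : w ∈ H := H.mul_mem (oddRoot_mem (H.mul_mem hkH hlH)) (H.inv_mem hlH)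
  have hsl : oddRoot (l * k) = l * s * l⁻¹ := by
    rw [hs, ← oddRoot_conj]; congr 1; group
  have hwinv : w⁻¹ = l * s⁻¹ := by rw [hw, mul_inv_rev, inv_inv]
  -- conjugation by `x`
  have hxs : x * s * x = (l * s * l⁻¹)⁻¹ := by
    have h := oddRoot_conj x (k * l)
    rw [hxi] at h
    rw [hs, ← h, ← hsl, ← oddRoot_inv]
    congr 1
    rw [show x * (k * l) * x = (x * k * x) * (x⁻¹ * l * x) by group, hxi, hkx, hlx]
    exact (mul_inv_rev l k).symm
  have hwx : x * w * x = w⁻¹ := by
    rw [hwinv, hw, show x * (s * l⁻¹) * x = (x * s * x) * (x⁻¹ * l⁻¹ * x) by group, hxs, hxi]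
    have : x * l⁻¹ * x = l := by
      have := congrArg Inv.inv hlx
      simpa [hxi, mul_assoc] using this
    rw [this]; group
  -- conjugation by `y`
  have hyk : y * l * y = k := by
    rw [hl, show y * (y * k * y) * y = (y * y) * k * (y * y) by group, hy, one_mul, mul_one]
  have hys : y * s * y = l * s * l⁻¹ := by
    have h := oddRoot_conj y (k * l)
    rw [hyi] at h
    rw [hs, ← h, ← hsl]
    congr 1
    rw [show y * (k * l) * y = (y * k * y) * (y⁻¹ * l * y) by group, hyi, hyk]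
  have hwy : y * w * y = w⁻¹ := by
    rw [hwinv, hw, show y * (s * l⁻¹) * y = (y * s * y) * (y⁻¹ * l⁻¹ * y) by group, hys, hyi]
    have : y * l⁻¹ * y = k⁻¹ := by
      have := congrArg Inv.inv hyk
      simpa [hyi, mul_assoc] using this
    rw [this, show l * s * l⁻¹ * k⁻¹ = l * (s * (k * l)⁻¹) by group, ← hs2]
    group
  have hwlw : w * l * w = k := by
    rw [hw, show s * l⁻¹ * l * (s * l⁻¹) = s * s * l⁻¹ by group, hs2, mul_inv_cancel_right]
  set u := oddRoot w with hu
  have huH : u ∈ H := oddRoot_mem hwH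
  have hu2 : u * u = w := oddRoot_sq (odd_orderOf hodd' hwH)
  have hux : x * u * x = u⁻¹ := by
    have h := oddRoot_conj x w
    rw [hxi, hwx, oddRoot_inv] at h
    exact h.symm
  have huy : y * u * y = u⁻¹ := by
    have h := oddRoot_conj y w
    rw [hyi, hwy, oddRoot_inv] at h
    exact h.symm
  have huL : u ∈ L := by
    refine h3 ⟨huH, Subgroup.mem_centralizer_singleton_iff.2 ?_⟩
    have : (x * y) * u * (y * x) = u := by
      calc (x * y) * u * (y * x) = x * (y * u * y) * x := by group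
        _ = x * u⁻¹ * x := by rw [huy]
        _ = (x * u * x)⁻¹ := by rw [mul_inv_rev, mul_inv_rev, hxi]; group
        _ = u := by rw [hux, inv_inv]
    calc u * (x * y) = (x * y) * u * (y * x) * (x * y) := by rw [this]
      _ = (x * y) * u := by
          rw [mul_assoc _ (y * x), show y * x * (x * y) = y * (x * x) * y by group, hx, mul_one, hy, mul_one]
  set c := u⁻¹ * k * u⁻¹ with hc'
  have hcy : y * c * y = c := by
    have : y * u⁻¹ * y = u := by
      have := congrArg Inv.inv huy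
      simpa [hyi, mul_assoc] using this
    calc y * (u⁻¹ * k * u⁻¹) * y = (y * u⁻¹ * y⁻¹) * (y * k * y⁻¹) * (y * u⁻¹ * y) := by group
      _ = u * l * u := by rw [hyi, this]
      _ = u⁻¹ * (w * l * w) * u⁻¹ := by rw [← hu2]; group
      _ = _ := by rw [hwlw]
  have hcL : c ∈ L := by
    refine h2 ⟨H.mul_mem (H.mul_mem (H.inv_mem huH) hkH) (H.inv_mem huH),
      Subgroup.mem_centralizer_singleton_iff.2 ?_⟩
    calc c * y = y * c * y * y := by rw [hcy]
      _ = y * c := by rw [mul_assoc (y * c) y y, hy, mul_one]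
  simpa [hc', mul_assoc] using L.mul_mem (L.mul_mem huL hcL) huL

end CfsgLib.Recog
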