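import Mathlib
import Cfsg.Prelude.Def_LieRecognition
import Cfsg.Agent.Recog.OddInvolution

/-!
Elementary theory of split rank one set-ups in characteristic two (Suzuki): regularity of `Q`,
involutions, the special pair `(s, r)`, transitivity of the inverted elements of `D` on the
involutions of the point stabiliser, and the centralisers of subsets of `D`.
-/

set_option autoImplicit false

namespace CfsgLib.Recog

open MulAction

variable {G Ω : Type*} [Group G] [MulAction G Ω]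

/-- The two point stabiliser attached to `(a, t)`. -/
local notation "D[" a "," t "]" => stabilizer G a ⊓ stabilizer G (t • a)

namespace RankOne

variable {a : Ω} {t : G} {Q : Subgroup G} (hS : Cfsg.IsRankOneSetup G Ω a t Q)
include hS

theorem pretransitive : IsPretransitive G Ω :=
  haveI := hS.two_transitive; isPretransitive_of_is_two_pretransitive

theorem finite_points [Finite G] : Finite Ω := by
  have := pretransitive hS
  exact Finite.of_surjective (fun g : G => g • a) fun c => exists_smul_eq G a c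

theorem exists_pair {p q p' q' : Ω} (h : p ≠ q) (h' : p' ≠ q') :
    ∃ g : G, g • p = p' ∧ g • q = q' :=
  is_two_pretransitive_iff.1 hS.two_transitive h h'

theorem b_ne : t • a ≠ a := fun h => hS.not_mem h

theorem t_inv : t⁻¹ = t := inv_eq_of_mul_eq_one_right hS.mul_self

theorem t_b : t • t • a = a := by rw [← mul_smul, hS.mul_self, one_smul]

theorem conj_mem' {h x : G} (hh : h • a = a) (hx : x ∈ Q) : h⁻¹ * x * h ∈ Q := by
  simpa using hS.conj_mem h⁻¹ (inv_mem (mem_stabilizer_iff.2 hh)) x hx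

theorem fix_a {x : G} (hx : x ∈ Q) : x • a = a := hS.le hx

theorem t_conj_mem {d : G} (hd : d ∈ D[a, t]) : t * d * t ∈ D[a, t] := by
  obtain ⟨h1, h2⟩ := hd
  constructor
  · show (t * d * t) • a = a
    rw [mul_smul, mul_smul, mem_stabilizer_iff.1 h2, t_b hS]
  · show (t * d * t) • t • a = t • a
    rw [mul_smul, mul_smul, t_b hS, mem_stabilizer_iff.1 h1]

theorem eq_one_of_mem_D {x : G} (hx : x ∈ Q) (h : x • t • a = t • a) : x = 1 := by
  have : x ∈ Q ⊓ stabilizer G (t • a) := ⟨hx, h⟩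
  rwa [hS.inf_eq_bot, Subgroup.mem_bot] at this

theorem D_le_normalizer : D[a, t] ≤ Subgroup.normalizer (Q : Set G) := by
  intro d hd
  rw [Subgroup.mem_normalizer_iff]
  refine fun n => ⟨hS.conj_mem d hd.1 n, fun hn => ?_⟩
  have := conj_mem' hS (mem_stabilizer_iff.1 hd.1) hn
  simpa [mul_assoc] using this

theorem exists_mul {g : G} (hg : g • a = a) : ∃ q ∈ Q, ∃ d ∈ D[a, t], g = q * d := by
  have h : g ∈ (↑(Q ⊔ D[a, t]) : Set G) := by
    rw [SetLike.mem_coe, hS.sup_eq]; exact hg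
  rw [Subgroup.coe_mul_of_right_le_normalizer_left _ _ (D_le_normalizer hS)] at h
  obtain ⟨q, hq, d, hd, rfl⟩ := h
  exact ⟨q, hq, d, hd, rfl⟩

theorem mul_unique {q q' d d' : G} (hq : q ∈ Q) (hq' : q' ∈ Q) (hd : d ∈ D[a, t])
    (hd' : d' ∈ D[a, t]) (h : q * d = q' * d') : q = q' ∧ d = d' := by
  have hb : (q'⁻¹ * q) • t • a = t • a := by
    have : q'⁻¹ * q = d' * d⁻¹ := by
      rw [eq_mul_inv_iff_mul_eq, mul_assoc, h, inv_mul_cancel_left]
    rw [this]
    exact ((D[a, t]).mul_mem hd' ((D[a, t]).inv_mem hd)).2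
  obtain rfl : q' = q := inv_mul_eq_one.1 (eq_one_of_mem_D hS (Q.mul_mem (Q.inv_mem hq') hq) hb)
  exact ⟨rfl, mul_left_cancel h⟩

theorem exists_mem_smul {c : Ω} (hc : c ≠ a) : ∃ q ∈ Q, q • t • a = c := by
  obtain ⟨g, hga, hgb⟩ := exists_pair hS (b_ne hS).symm hc.symm
  obtain ⟨q, hq, d, hd, rfl⟩ := exists_mul hS hga
  refine ⟨q, hq, ?_⟩
  rw [mul_smul, mem_stabilizer_iff.1 hd.2] at hgb
  exact hgb

theorem regular {c d : Ω} (hc : c ≠ a) (hd : d ≠ a) : ∃! x : Q, (x : G) • c = d := by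
  obtain ⟨q, hq, rfl⟩ := exists_mem_smul hS hc
  obtain ⟨r, hr, rfl⟩ := exists_mem_smul hS hd
  refine ⟨⟨r * q⁻¹, Q.mul_mem hr (Q.inv_mem hq)⟩, by simp [mul_smul], ?_⟩
  rintro ⟨x, hx⟩ he
  have : (r⁻¹ * x * q) • t • a = t • a := by
    simp only [mul_smul] at he ⊢
    rw [he, inv_smul_smul]
  have := eq_one_of_mem_D hS (Q.mul_mem (Q.mul_mem (Q.inv_mem hr) hx) hq) this
  refine Subtype.ext ?_
  show x = r * q⁻¹
  calc x = r * (r⁻¹ * x * q) * q⁻¹ := by group
    _ = _ := by rw [this, mul_one]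

theorem eq_of_smul_eq {x y : G} {c : Ω} (hx : x ∈ Q) (hy : y ∈ Q) (hc : c ≠ a)
    (h : x • c = y • c) : x = y := by
  have hd : y • c ≠ a := fun he => hc (by
    rw [← fix_a hS hy] at he; exact smul_left_cancel y he)
  exact congrArg Subtype.val ((regular hS hc hd).unique (y₁ := ⟨x, hx⟩) (y₂ := ⟨y, hy⟩) h rfl)

theorem eq_one_of_fix {x : G} {c : Ω} (hx : x ∈ Q) (hc : c ≠ a) (h : x • c = c) : x = 1 :=
  eq_of_smul_eq hS hx Q.one_mem hc (by rw [h, one_smul])

theorem fix_only_a {x : G} {c : Ω} (hx : x ∈ Q) (hx1 : x ≠ 1) (h : x • c = c) : c = a :=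
  by_contra fun hc => hx1 (eq_one_of_fix hS hx hc h)

theorem smul_ne_a {x : G} {c : Ω} (hx : x ∈ Q) (hc : c ≠ a) : x • c ≠ a := fun h =>
  hc (by rw [← fix_a hS hx] at h; exact smul_left_cancel x h)

theorem exists_ne_one [Finite G] : ∃ x ∈ Q, x ≠ 1 ∧ x * x = 1 := by
  obtain ⟨x, hx⟩ := exists_prime_orderOf_dvd_card' (G := Q) 2 (even_iff_two_dvd.1 hS.even_card)
  have h := pow_orderOf_eq_one x
  rw [hx, pow_two] at h
  exact ⟨x, x.2, fun h1 => by simp [Subtype.ext (a2 := (1 : Q)) h1] at hx, congrArg Subtype.val h⟩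

theorem card_points [Finite G] : Nat.card Ω = Nat.card Q + 1 := by
  classical
  have := finite_points hS
  rw [← Finite.card_option (α := Q)]
  refine (Nat.card_congr (Equiv.ofBijective
    (fun o : Option Q => o.elim a (fun q => (q : G) • t • a)) ⟨?_, ?_⟩)).symm
  · rintro (_ | x) (_ | y) h
    · rfl
    · exact absurd h.symm (smul_ne_a hS y.2 (b_ne hS))
    · exact absurd h (smul_ne_a hS x.2 (b_ne hS))
    · exact congrArg some (Subtype.ext (eq_of_smul_eq hS x.2 y.2 (b_ne hS) h))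
  · intro c
    by_cases hc : c = a
    · exact ⟨none, hc.symm⟩
    · obtain ⟨q, hq, rfl⟩ := exists_mem_smul hS hc
      exact ⟨some ⟨q, hq⟩, rfl⟩

theorem card_stab [Finite G] : Nat.card (stabilizer G a) = Nat.card Q * Nat.card ↥(D[a, t]) := by
  rw [← Nat.card_prod]
  refine (Nat.card_congr (Equiv.ofBijective (fun p : Q × ↥(D[a, t]) =>
    (⟨p.1 * p.2, mul_mem (hS.le p.1.2) p.2.2.1⟩ : stabilizer G a)) ⟨?_, ?_⟩)).symm
  · rintro ⟨q, d⟩ ⟨q', d'⟩ h
    obtain ⟨h1, h2⟩ := mul_unique hS q.2 q'.2 d.2 d'.2 (congrArg Subtype.val h)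
    exact Prod.ext (Subtype.ext h1) (Subtype.ext h2)
  · rintro ⟨g, hg⟩
    obtain ⟨q, hq, d, hd, rfl⟩ := exists_mul hS hg
    exact ⟨⟨⟨q, hq⟩, ⟨d, hd⟩⟩, rfl⟩

theorem card_group [Finite G] :
    Nat.card G = Nat.card Q * Nat.card ↥(D[a, t]) * (Nat.card Q + 1) := by
  have := pretransitive hS
  have hidx := Subgroup.card_mul_index (stabilizer G a)
  rw [index_stabilizer_of_transitive, card_stab hS, card_points hS] at hidx
  exact hidx.symm

/-! ### Involutions -/

theorem exists_fix [Finite G] {z : G} (hz : z * z = 1) : ∃ c : Ω, z • c = c := by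
  classical
  have := finite_points hS
  cases nonempty_fintype Ω
  by_contra hne
  push Not at hne
  set e : Equiv.Perm Ω := MulAction.toPerm z
  have he : e ^ 2 ^ 1 = 1 := by
    ext c; simp [e, pow_two, ← mul_smul, hz]
  have hodd : ¬ 2 ∣ Fintype.card Ω := by
    rw [← Nat.card_eq_fintype_card, card_points hS]
    have := even_iff_two_dvd.1 hS.even_card
    omega
  obtain ⟨c, hc⟩ := Equiv.Perm.exists_fixed_point_of_prime (p := 2) hodd he
  exact hne c hc

theorem not_mem_D [Finite G] {z : G} (hz1 : z ≠ 1) (hz : z * z = 1) : z ∉ D[a, t] :=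
  fun h => hz1 (eq_one_of_sq hS.odd_card h hz)

theorem fix_unique [Finite G] {z : G} (hz1 : z ≠ 1) (hz : z * z = 1) {c d : Ω} (hc : z • c = c)
    (hd : z • d = d) : c = d := by
  by_contra h
  obtain ⟨g, hga, hgb⟩ := exists_pair hS h (b_ne hS).symm
  refine not_mem_D hS (z := g * z * g⁻¹) ?_ ?_ ⟨?_, ?_⟩
  · intro h1
    exact hz1 (conj_eq_one_iff.1 h1)
  · rw [show g * z * g⁻¹ * (g * z * g⁻¹) = g * (z * z) * g⁻¹ by group, hz, mul_one, mul_inv_cancel]
  · show (g * z * g⁻¹) • a = a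
    rw [mul_smul, mul_smul, ← hga, inv_smul_smul, hc]
  · show (g * z * g⁻¹) • t • a = t • a
    rw [mul_smul, mul_smul, ← hgb, inv_smul_smul, hd]

theorem mem_Q [Finite G] {s : G} (hs : s • a = a) (hs2 : s * s = 1) : s ∈ Q := by
  obtain ⟨q, hq, d, hd, rfl⟩ := exists_mul hS hs
  have h : (q * (d * q * d⁻¹)) * (d * d) = 1 * 1 := by
    rw [one_mul, show q * (d * q * d⁻¹) * (d * d) = q * d * (q * d) by group, hs2]
  obtain ⟨-, hdd⟩ := mul_unique hS (Q.mul_mem hq (hS.conj_mem d hd.1 q hq)) Q.one_mem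
    ((D[a, t]).mul_mem hd hd) (one_mem _) h
  rw [eq_one_of_sq hS.odd_card hd hdd, mul_one]
  exact hq

theorem mem_involutionsIn {s : G} :
    s ∈ Cfsg.involutionsIn (stabilizer G a : Set G) ↔ s • a = a ∧ s ≠ 1 ∧ s * s = 1 := Iff.rfl

theorem conj_invol {g z : G} (hz : z ≠ 1 ∧ z * z = 1) :
    g * z * g⁻¹ ≠ 1 ∧ g * z * g⁻¹ * (g * z * g⁻¹) = 1 :=
  ⟨fun h => hz.1 (conj_eq_one_iff.1 h), by
    rw [show g * z * g⁻¹ * (g * z * g⁻¹) = g * (z * z) * g⁻¹ by group, hz.2, mul_one,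
      mul_inv_cancel]⟩

theorem fix_of_commute [Finite G] {z g : G} (hz1 : z ≠ 1) (hz : z * z = 1) {c : Ω}
    (hc : z • c = c) (h : g * z = z * g) : g • c = c :=
  fix_unique hS hz1 hz (by rw [← mul_smul, ← h, mul_smul, hc]) hc

theorem odd_mul [Finite G] {s u : G} (hsa : s • a = a) (hs1 : s ≠ 1) (hs : s * s = 1)
    (hua : u • a ≠ a) (hu : u * u = 1) : Odd (orderOf (s * u)) := by
  by_contra hev
  obtain ⟨m, hm⟩ := Nat.not_odd_iff_even.1 hev
  set x := s * u with hx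
  have hpos : 0 < orderOf x := orderOf_pos x
  set z := x ^ m with hz
  have hz1 : z ≠ 1 := pow_ne_one_of_lt_orderOf (by omega) (by omega)
  have hz2 : z * z = 1 := by rw [hz, ← pow_add, ← hm, pow_orderOf_eq_one]
  have hsx : s * x * s⁻¹ = x⁻¹ := by
    rw [hx, mul_inv_rev, inv_eq_of_mul_eq_one_right hs, inv_eq_of_mul_eq_one_right hu,
      ← mul_assoc, hs, one_mul]
  have hzs : s * z = z * s := by
    have h2 : s * z * s⁻¹ = z⁻¹ := by
      rw [hz, ← MulAut.conj_apply, map_pow, MulAut.conj_apply, hsx, inv_pow]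
    rw [inv_eq_of_mul_eq_one_right hz2, mul_inv_eq_iff_eq_mul] at h2
    exact h2
  have hza : z • a = a := fix_of_commute hS hs1 hs hsa hzs.symm
  have hzu : u * z = z * u := by
    have hu' : u = s * x := by rw [hx, ← mul_assoc, hs, one_mul]
    rw [hu', mul_assoc, (Commute.self_pow x m).eq, ← mul_assoc, hzs, mul_assoc]
  exact hua (fix_of_commute hS hz1 hz2 hza hzu)

theorem exists_conj [Finite G] {u v : G} (hu1 : u ≠ 1) (hu : u * u = 1) (hv1 : v ≠ 1)
    (hv : v * v = 1) : ∃ g : G, g * u * g⁻¹ = v := by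
  have key : ∀ s w : G, s • a = a → s ≠ 1 → s * s = 1 → w • a ≠ a → w * w = 1 →
      ∃ g : G, g * s * g⁻¹ = w := by
    intro s w hsa hs1 hs hwa hw
    obtain ⟨m, hm⟩ := odd_mul hS hsa hs1 hs hwa hw
    set x := s * w with hx
    have hsx : s * x * s⁻¹ = x⁻¹ := by
      rw [hx, mul_inv_rev, inv_eq_of_mul_eq_one_right hs, inv_eq_of_mul_eq_one_right hw,
        ← mul_assoc, hs, one_mul]
    have h2 : s * x ^ m * s⁻¹ = (x ^ m)⁻¹ := by
      rw [← MulAut.conj_apply, map_pow, MulAut.conj_apply, hsx, inv_pow]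
    refine ⟨x ^ m, ?_⟩
    have h3 : s * (x ^ m)⁻¹ = x ^ m * s := by
      rw [← h2]
      simp [mul_assoc, ← mul_assoc s s, hs, inv_eq_of_mul_eq_one_right hs]
    calc x ^ m * s * (x ^ m)⁻¹ = x ^ m * (s * (x ^ m)⁻¹) := by group
      _ = x ^ (m + m) * s := by rw [h3, pow_add, mul_assoc]
      _ = x⁻¹ * s := by
          congr 1
          refine eq_inv_of_mul_eq_one_left ?_
          rw [← pow_succ, show m + m + 1 = orderOf x by omega, pow_orderOf_eq_one]
      _ = w := by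
          rw [hx, mul_inv_rev, inv_mul_cancel_right, inv_eq_of_mul_eq_one_right hw]
  obtain ⟨s, hsQ, hs1, hs⟩ := exists_ne_one hS
  have hsa := fix_a hS hsQ
  -- every involution is conjugate to `s`
  suffices h : ∀ w : G, w ≠ 1 → w * w = 1 → ∃ g : G, g * s * g⁻¹ = w by
    obtain ⟨g, rfl⟩ := h u hu1 hu
    obtain ⟨g', rfl⟩ := h v hv1 hv
    exact ⟨g' * g⁻¹, by group⟩
  intro w hw1 hw
  by_cases hwa : w • a = a
  · have h1 := conj_invol hS (g := t) (z := s) ⟨hs1, hs⟩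
    have h2 : (t * s * t⁻¹) • a ≠ a := by
      rw [mul_smul, mul_smul, t_inv hS]
      intro h
      have h' := congrArg (t • ·) h
      simp only [← mul_smul, ← mul_assoc, hS.mul_self, one_mul] at h'
      rw [mul_smul] at h'
      exact b_ne hS (fix_only_a hS hsQ hs1 h')
    obtain ⟨g, hg⟩ := key w _ hwa hw1 hw h2 h1.2
    exact ⟨g⁻¹ * t, by rw [mul_inv_rev, inv_inv, show g⁻¹ * t * s * (t⁻¹ * g) = g⁻¹ * (t * s * t⁻¹) * g by group, ← hg]; group⟩
  · exact key s w hsa hs1 hs hwa hw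

/-- The involution of the point stabiliser and the element of `Q` attached to `t`. -/
theorem existsUnique_special [Finite G] :
    ∃! p : G × G, p.1 ∈ Cfsg.involutionsIn (stabilizer G a : Set G) ∧ p.2 ∈ Q ∧
      t * p.1 * t = p.2⁻¹ * t * p.2 := by
  obtain ⟨c, hc⟩ := exists_fix hS hS.mul_self
  have hca : c ≠ a := fun h => b_ne hS (by rw [h] at hc; exact hc)
  obtain ⟨r, hr, hrb⟩ := exists_mem_smul hS hca
  have hrc : r⁻¹ • c = t • a := by rw [← hrb, inv_smul_smul]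
  refine ⟨(t * (r⁻¹ * t * r) * t, r), ⟨⟨?_, ?_, ?_⟩, hr, ?_⟩, ?_⟩
  · show (t * (r⁻¹ * t * r) * t) • a = a
    simp only [mul_smul, hrb, hc, hrc, t_b hS]
  · intro h
    have h' : t * (r⁻¹ * t * r) * t = 1 := h
    have h1 : r⁻¹ * t * r = t * t := by
      calc r⁻¹ * t * r = t⁻¹ * (t * (r⁻¹ * t * r) * t) * t⁻¹ := by group
        _ = _ := by rw [h', t_inv hS, mul_one]
    rw [hS.mul_self] at h1
    exact hS.ne_one (conj_eq_one_iff.1 (show r⁻¹ * t * r⁻¹⁻¹ = 1 by rw [inv_inv, h1]))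
  · rw [show t * (r⁻¹ * t * r) * t * (t * (r⁻¹ * t * r) * t) = t * (r⁻¹ * t * r) * (t * t) * (r⁻¹ * t * r) * t by group,
      hS.mul_self, mul_one, show t * (r⁻¹ * t * r) * (r⁻¹ * t * r) * t = t * (r⁻¹ * (t * t) * r) * t by group,
      hS.mul_self, mul_one, inv_mul_cancel, mul_one, hS.mul_self]
  · simp only [mul_assoc, hS.mul_self, mul_one, ← mul_assoc t t, one_mul]
  · rintro ⟨s, r'⟩ ⟨⟨hsa, hs1, hs⟩, hr', he⟩
    have hsa' : s • a = a := hsa
    have h1 : r' • t • a = c := by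
      refine fix_unique hS hS.ne_one hS.mul_self ?_ hc
      rw [← mul_smul r', ← mul_smul t]
      have : t * (r' * t) = r' * (r'⁻¹ * t * r') * t := by group
      rw [this, ← he, show r' * (t * s * t) * t = r' * t * s * (t * t) by group, hS.mul_self,
        mul_one, mul_smul, hsa']
    obtain rfl : r' = r := eq_of_smul_eq hS hr' hr (b_ne hS) (h1.trans hrb.symm)
    refine Prod.ext ?_ rfl
    show s = t * (r'⁻¹ * t * r') * t
    rw [← he]
    simp only [mul_assoc, hS.mul_self, mul_one, ← mul_assoc t t, one_mul]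

theorem centralizer_D_eq [Finite G] {s r : G}
    (hs : s ∈ Cfsg.involutionsIn (stabilizer G a : Set G)) (hr : r ∈ Q)
    (he : t * s * t = r⁻¹ * t * r) :
    D[a, t] ⊓ Subgroup.centralizer {t} = D[a, t] ⊓ Subgroup.centralizer {s} := by
  obtain ⟨hsa, hs1, hs2⟩ := mem_involutionsIn hS |>.1 hs
  have hs' : s = t * (r⁻¹ * t * r) * t := by
    rw [← he]; simp only [mul_assoc, hS.mul_self, mul_one, ← mul_assoc t t, one_mul]
  have hfix : t • (r • t • a) = r • t • a := by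
    rw [← mul_smul r, ← mul_smul t, show t * (r * t) = r * (r⁻¹ * t * r) * t by group, ← he,
      show r * (t * s * t) * t = r * t * s * (t * t) by group, hS.mul_self, mul_one, mul_smul, hsa]
  have hle : D[a, t] ⊓ Subgroup.centralizer {t} ≤ D[a, t] ⊓ Subgroup.centralizer {s} := by
    rintro v ⟨hv, hvt⟩
    refine ⟨hv, Subgroup.mem_centralizer_singleton_iff.2 ?_⟩
    have hvt' : Commute v t := Subgroup.mem_centralizer_singleton_iff.1 hvt
    have hva : v • a = a := hv.1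
    have hvb : v • t • a = t • a := hv.2
    have hvc : v • r • t • a = r • t • a := fix_of_commute hS hS.ne_one hS.mul_self hfix hvt'.eq
    have hvr : v * r * v⁻¹ = r := by
      refine eq_of_smul_eq hS (hS.conj_mem v hv.1 r hr) hr (b_ne hS) ?_
      rw [mul_smul, mul_smul, inv_smul_eq_iff.2 hvb.symm, hvc]
    have hvr' : Commute v r := mul_inv_eq_iff_eq_mul.1 hvr
    rw [hs']
    exact (((hvt'.mul_right ((hvr'.inv_right.mul_right hvt').mul_right hvr'))).mul_right hvt').eq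
  refine Subgroup.eq_of_le_of_card_ge hle ?_
  set g : G := r * t
  have hgt : g * s * g⁻¹ = t := by
    rw [hs']; simp only [g, mul_inv_rev, t_inv hS, mul_assoc]
    simp only [← mul_assoc t t, hS.mul_self, one_mul, mul_inv_cancel_left]
    simp [hS.mul_self]
  refine Nat.card_le_card_of_injective
    (fun v : ↥(D[a, t] ⊓ Subgroup.centralizer {s}) =>
      (⟨g * v * g⁻¹, ?_⟩ : ↥(D[a, t] ⊓ Subgroup.centralizer {t}))) ?_
  · obtain ⟨⟨hva, hvb⟩, hvs⟩ := v.2
    have hvs' := Subgroup.mem_centralizer_singleton_iff.1 hvs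
    have hcomm : g * v * g⁻¹ * t = t * (g * v * g⁻¹) := by
      calc g * v * g⁻¹ * t = g * v * g⁻¹ * (g * s * g⁻¹) := by rw [hgt]
        _ = g * ((v : G) * s) * g⁻¹ := by group
        _ = g * (s * v) * g⁻¹ := by rw [hvs']
        _ = g * s * g⁻¹ * (g * v * g⁻¹) := by group
        _ = _ := by rw [hgt]
    have hfa : (g * v * g⁻¹) • a = a := by
      have : g⁻¹ • a = t • a := by
        rw [show g⁻¹ = t * r⁻¹ by simp [g, t_inv hS], mul_smul,
          inv_smul_eq_iff.2 (fix_a hS hr).symm]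
      rw [mul_smul, mul_smul, this, mem_stabilizer_iff.1 hvb]
      simp only [g, mul_smul, t_b hS, fix_a hS hr]
    refine ⟨⟨hfa, ?_⟩, Subgroup.mem_centralizer_singleton_iff.2 hcomm⟩
    show (g * v * g⁻¹) • t • a = t • a
    rw [← mul_smul, hcomm, mul_smul, hfa]
  · intro v w h
    exact Subtype.ext (mul_left_cancel (mul_right_cancel (congrArg Subtype.val h)))

theorem t_norm [Finite G] : ∀ x ∈ D[a, t], t * x * t ∈ D[a, t] := fun _ hx => t_conj_mem hS hx

theorem tk_spec {k : G} (hk : k ∈ Cfsg.invertedBy (D[a, t]) t) :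
    t * k ≠ 1 ∧ t * k * (t * k) = 1 ∧ (t * k) • a = t • a := by
  obtain ⟨hk, hkt⟩ := (mem_invertedBy_iff hS.mul_self).1 hk
  refine ⟨fun h => hS.not_mem ?_, ?_, ?_⟩
  · rw [show t = k⁻¹ from eq_inv_of_mul_eq_one_left h]
    exact inv_mem hk.1
  · rw [show t * k * (t * k) = t * k * t * k by group, hkt, inv_mul_cancel]
  · rw [mul_smul, mem_stabilizer_iff.1 hk.1]

theorem card_inverted [Finite G] :
    Nat.card (Cfsg.invertedBy (D[a, t]) t) =
      Nat.card (Cfsg.involutionsIn (stabilizer G a : Set G)) := by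
  classical
  set Z := {z : G // z ≠ 1 ∧ z * z = 1 ∧ z • a ≠ a}
  have h1 : Nat.card (Q × Cfsg.invertedBy (D[a, t]) t) = Nat.card Z := by
    refine Nat.card_congr (Equiv.ofBijective (fun p => (⟨p.1 * (t * p.2) * (p.1 : G)⁻¹, ?_⟩ : Z)) ⟨?_, ?_⟩)
    · obtain ⟨h1, h2, h3⟩ := tk_spec hS p.2.2
      refine ⟨(conj_invol hS ⟨h1, h2⟩).1, (conj_invol hS ⟨h1, h2⟩).2, ?_⟩
      rw [mul_smul, mul_smul, inv_smul_eq_iff.2 (fix_a hS p.1.2).symm, h3]
      exact smul_ne_a hS p.1.2 (b_ne hS)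
    · rintro ⟨⟨q, hq⟩, k, hk⟩ ⟨⟨q', hq'⟩, k', hk'⟩ h
      have h' : q * (t * k) * q⁻¹ = q' * (t * k') * q'⁻¹ := congrArg Subtype.val h
      have h2 := congrArg (· • a) h'
      simp only [mul_smul (q * (t * k)), mul_smul (q' * (t * k')), mul_smul q, mul_smul q',
        inv_smul_eq_iff.2 (fix_a hS hq).symm, inv_smul_eq_iff.2 (fix_a hS hq').symm,
        (tk_spec hS hk).2.2, (tk_spec hS hk').2.2] at h2
      obtain rfl := eq_of_smul_eq hS hq hq' (b_ne hS) h2
      obtain rfl := mul_left_cancel (mul_left_cancel (mul_right_cancel h'))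
      rfl
    · rintro ⟨z, hz1, hz, hza⟩
      obtain ⟨q, hq, hqb⟩ := exists_mem_smul hS hza
      set w := q⁻¹ * z * q with hw
      have hwi : w ≠ 1 ∧ w * w = 1 := by
        have := conj_invol hS (g := q⁻¹) ⟨hz1, hz⟩
        rwa [inv_inv] at this
      have hwa : w • a = t • a := by
        rw [hw, mul_smul, mul_smul, fix_a hS hq, ← hqb, inv_smul_smul]
      have hwb : w • t • a = a := by rw [← hwa, ← mul_smul, hwi.2, one_smul]
      have hka : (t * w) • a = a := by rw [mul_smul, hwa, t_b hS]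
      have hkb : (t * w) • t • a = t • a := by rw [mul_smul, hwb]
      refine ⟨(⟨q, hq⟩, ⟨t * w, (mem_invertedBy_iff hS.mul_self).2 ⟨⟨hka, hkb⟩, ?_⟩⟩), ?_⟩
      · rw [mul_inv_rev, t_inv hS, inv_eq_of_mul_eq_one_right hwi.2, ← mul_assoc t t, hS.mul_self,
          one_mul]
      · apply Subtype.ext
        show q * (t * (t * w)) * q⁻¹ = z
        rw [← mul_assoc t t, hS.mul_self, one_mul, hw]; group
  have h2 : Nat.card (Q × Cfsg.involutionsIn (stabilizer G a : Set G)) = Nat.card Z := by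
    refine Nat.card_congr (Equiv.ofBijective
      (fun p => (⟨p.1 * (t * p.2 * t⁻¹) * (p.1 : G)⁻¹, ?_⟩ : Z)) ⟨?_, ?_⟩)
    · obtain ⟨hsa, hs1, hs⟩ := (mem_involutionsIn hS).1 p.2.2
      have hh := conj_invol hS (g := (p.1 : G)) (conj_invol hS (g := t) ⟨hs1, hs⟩)
      refine ⟨hh.1, hh.2, fun h => ?_⟩
      refine smul_ne_a hS p.1.2 (b_ne hS) (fix_unique hS hh.1 hh.2 ?_ h)
      simp only [mul_smul, inv_smul_smul, hsa]
    · rintro ⟨⟨q, hq⟩, s, hs⟩ ⟨⟨q', hq'⟩, s', hs'⟩ h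
      obtain ⟨hsa, hs1, hs2⟩ := (mem_involutionsIn hS).1 hs
      obtain ⟨hsa', hs1', hs2'⟩ := (mem_involutionsIn hS).1 hs'
      have h' : q * (t * s * t⁻¹) * q⁻¹ = q' * (t * s' * t⁻¹) * q'⁻¹ := congrArg Subtype.val h
      have hh := conj_invol hS (g := q) (conj_invol hS (g := t) ⟨hs1, hs2⟩)
      have hf : q • t • a = q' • t • a := by
        refine fix_unique hS hh.1 hh.2 ?_ ?_
        · simp only [mul_smul, inv_smul_smul, hsa]
        · rw [h']; simp only [mul_smul, inv_smul_smul, hsa']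
      obtain rfl := eq_of_smul_eq hS hq hq' (b_ne hS) hf
      obtain rfl := mul_left_cancel (mul_right_cancel (mul_left_cancel (mul_right_cancel h')))
      rfl
    · rintro ⟨z, hz1, hz, hza⟩
      obtain ⟨c, hc⟩ := exists_fix hS hz
      obtain ⟨q, hq, hqb⟩ := exists_mem_smul hS (show c ≠ a from fun h => hza (h ▸ hc))
      have hh := conj_invol hS (g := (q * t)⁻¹) ⟨hz1, hz⟩
      refine ⟨(⟨q, hq⟩, ⟨(q * t)⁻¹ * z * ((q * t)⁻¹)⁻¹, (mem_involutionsIn hS).2 ⟨?_, hh.1, hh.2⟩⟩), ?_⟩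
      · rw [mul_smul, mul_smul, inv_inv, mul_smul, hqb, hc, ← hqb, ← mul_smul q, inv_smul_smul]
      · apply Subtype.ext
        show q * (t * ((q * t)⁻¹ * z * ((q * t)⁻¹)⁻¹) * t⁻¹) * q⁻¹ = z
        group
  rw [← h2, Nat.card_prod, Nat.card_prod] at h1
  exact mul_left_cancel₀ Nat.card_pos.ne' h1

theorem exists_special [Finite G] : ∃ s r : G, s ∈ Cfsg.involutionsIn (stabilizer G a : Set G) ∧
    r ∈ Q ∧ t * s * t = r⁻¹ * t * r ∧
    D[a, t] ⊓ Subgroup.centralizer {t} = D[a, t] ⊓ Subgroup.centralizer {s} := by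
  obtain ⟨⟨s, r⟩, ⟨h1, h2, h3⟩, -⟩ := existsUnique_special hS
  exact ⟨s, r, h1, h2, h3, centralizer_D_eq hS h1 h2 h3⟩

theorem conj_mem_invol [Finite G] {d s : G} (hd : d • a = a)
    (hs : s ∈ Cfsg.involutionsIn (stabilizer G a : Set G)) :
    d⁻¹ * s * d ∈ Cfsg.involutionsIn (stabilizer G a : Set G) := by
  obtain ⟨hsa, hs1, hs2⟩ := (mem_involutionsIn hS).1 hs
  have h := conj_invol hS (g := d⁻¹) ⟨hs1, hs2⟩
  rw [inv_inv] at h
  exact ⟨by
    show (d⁻¹ * s * d) • a = a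
    rw [mul_smul, mul_smul, hd, hsa, inv_smul_eq_iff.2 hd.symm], h.1, h.2⟩

/-- `D` is transitive on the involutions of the point stabiliser; so is every coset map from
the inverted elements. -/
theorem inverted_transitive [Finite G] {s s' : G}
    (hs : s ∈ Cfsg.involutionsIn (stabilizer G a : Set G))
    (hs' : s' ∈ Cfsg.involutionsIn (stabilizer G a : Set G)) :
    ∃ k ∈ Cfsg.invertedBy (D[a, t]) t, k⁻¹ * s * k = s' := by
  obtain ⟨s0, r, hs0, hr, he, hC⟩ := exists_special hS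
  set K := Cfsg.invertedBy (D[a, t]) t
  set Iv := Cfsg.involutionsIn (stabilizer G a : Set G)
  -- the map attached to a translate of the special involution is injective
  have inj : ∀ d ∈ K, ∀ k ∈ K, ∀ k' ∈ K,
      k⁻¹ * (d⁻¹ * s0 * d) * k = k'⁻¹ * (d⁻¹ * s0 * d) * k' → k = k' := by
    intro d hd k hk k' hk' h
    obtain ⟨hdD, hdt⟩ := (mem_invertedBy_iff hS.mul_self).1 hd
    obtain ⟨hkD, hkt⟩ := (mem_invertedBy_iff hS.mul_self).1 hk
    obtain ⟨hkD', hkt'⟩ := (mem_invertedBy_iff hS.mul_self).1 hk'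
    have hmem : (d * k) * (d * k')⁻¹ ∈ D[a, t] ⊓ Subgroup.centralizer {t} := by
      rw [hC]
      refine ⟨(D[a, t]).mul_mem ((D[a, t]).mul_mem hdD hkD) ((D[a, t]).inv_mem ((D[a, t]).mul_mem hdD hkD')),
        Subgroup.mem_centralizer_singleton_iff.2 ?_⟩
      calc d * k * (d * k')⁻¹ * s0 = d * k * (k'⁻¹ * (d⁻¹ * s0 * d) * k') * (d * k')⁻¹ := by group
        _ = d * k * (k⁻¹ * (d⁻¹ * s0 * d) * k) * (d * k')⁻¹ := by rw [h]
        _ = s0 * (d * k * (d * k')⁻¹) := by group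
    have hcm := Subgroup.mem_centralizer_singleton_iff.1 hmem.2
    have h1 : d⁻¹ * k⁻¹ * (k' * d) = d * k * (k'⁻¹ * d⁻¹) := by
      have e1 : t * (d * k * (d * k')⁻¹) * t = d * k * (d * k')⁻¹ := by
        rw [← hcm, mul_assoc, hS.mul_self, mul_one]
      have hdt' : t * d⁻¹ * t = d := by
        have := congrArg Inv.inv hdt
        simpa [t_inv hS, mul_assoc] using this
      have hkt'' : t * k'⁻¹ * t = k' := by
        have := congrArg Inv.inv hkt'
        simpa [t_inv hS, mul_assoc] using this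
      rw [mul_inv_rev] at e1
      calc d⁻¹ * k⁻¹ * (k' * d) = (t * d * t) * (t * k * t) * ((t * k'⁻¹ * t) * (t * d⁻¹ * t)) := by
            rw [hdt, hkt, hkt'', hdt']
        _ = t * (d * k * (k'⁻¹ * d⁻¹)) * t := by
            simp only [mul_assoc, ← mul_assoc t t, hS.mul_self, one_mul]
        _ = _ := e1
    have h2 : d * k' * d * (d * k' * d) = d * k * d * (d * k * d) := by
      calc d * k' * d * (d * k' * d) = d * k' * d * d * (k' * d) := by group
        _ = d * k * d * (d⁻¹ * k⁻¹ * d⁻¹) * (d * k' * d * d) * (k' * d) := by group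
        _ = d * k * d * (d⁻¹ * k⁻¹ * (k' * d)) * d * (k' * d) := by group
        _ = d * k * d * (d * k * (k'⁻¹ * d⁻¹)) * d * (k' * d) := by rw [h1]
        _ = _ := by group
    have h3 := eq_of_sq_eq hS.odd_card (mul_mem (mul_mem hdD hkD') hdD)
      (mul_mem (mul_mem hdD hkD) hdD) h2
    exact (mul_left_cancel (mul_right_cancel h3)).symm
  have hsurj : ∀ d ∈ K, ∀ x ∈ Iv, ∃ k ∈ K, k⁻¹ * (d⁻¹ * s0 * d) * k = x := by
    intro d hd x hx
    let φ : K → Iv := fun k => ⟨k.1⁻¹ * (d⁻¹ * s0 * d) * k.1,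
      conj_mem_invol hS ((mem_invertedBy_iff hS.mul_self).1 k.2).1.1
        (conj_mem_invol hS ((mem_invertedBy_iff hS.mul_self).1 hd).1.1 hs0)⟩
    have hφ : Function.Injective φ := fun k k' h =>
      Subtype.ext (inj d hd k k.2 k' k'.2 (congrArg Subtype.val h))
    obtain ⟨k, hk⟩ := (hφ.bijective_of_nat_card_le (card_inverted hS).ge).2 ⟨x, hx⟩
    exact ⟨k, k.2, congrArg Subtype.val hk⟩
  have h1K : (1 : G) ∈ K := (mem_invertedBy_iff hS.mul_self).2 ⟨one_mem (D[a, t]), by simp [hS.mul_self]⟩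
  obtain ⟨d, hd, rfl⟩ := hsurj 1 h1K s hs
  simp only [inv_one, one_mul, mul_one] at hs ⊢
  exact hsurj d hd s' hs'

theorem bruhat {g : G} (hg : g • a ≠ a) : ∃! p : G × G,
    p.1 ∈ stabilizer G a ∧ p.2 ∈ Q ∧ g = p.1 * t * p.2 := by
  have hga : g⁻¹ • a ≠ a := fun h => hg (by rw [inv_smul_eq_iff] at h; exact h.symm)
  obtain ⟨q, hq, hqb⟩ := exists_mem_smul hS hga
  refine ⟨(g * q * t, q⁻¹), ⟨?_, Q.inv_mem hq, ?_⟩, ?_⟩
  · show (g * q * t) • a = a
    rw [mul_smul, mul_smul, hqb, smul_inv_smul]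
  · simp only [mul_assoc, ← mul_assoc t t, hS.mul_self, one_mul, mul_inv_cancel, mul_one]
  · rintro ⟨p, q'⟩ ⟨hp, hq', rfl⟩
    have hp' : p • a = a := hp
    obtain rfl : q = q'⁻¹ := by
      refine eq_of_smul_eq hS hq (Q.inv_mem hq') (b_ne hS) ?_
      rw [hqb, mul_inv_rev, mul_inv_rev, mul_smul, mul_smul, inv_smul_eq_iff.2 hp'.symm, t_inv hS]
    exact Prod.ext (by simp [mul_assoc, hS.mul_self]) (inv_inv q').symm

theorem decomp_unique {g h f g' h' f' : G} (hg : g ∈ Q) (hh : h ∈ D[a, t]) (hf : f ∈ Q)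
    (hg' : g' ∈ Q) (hh' : h' ∈ D[a, t]) (hf' : f' ∈ Q) (he : g * h * t * f = g' * h' * t * f') :
    g = g' ∧ h = h' ∧ f = f' := by
  have hne : (g * h * t * f) • a ≠ a := by
    intro h0
    rw [mul_smul, fix_a hS hf, mul_smul, mul_smul, mem_stabilizer_iff.1 hh.2] at h0
    exact smul_ne_a hS hg (b_ne hS) h0
  have hmem : ∀ x y : G, x ∈ Q → y ∈ D[a, t] → x * y ∈ stabilizer G a := fun x y hx hy =>
    Subgroup.mul_mem _ (hS.le hx) hy.1
  have := (bruhat hS hne).unique (y₁ := (g * h, f)) (y₂ := (g' * h', f'))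
    ⟨hmem g h hg hh, hf, rfl⟩ ⟨hmem g' h' hg' hh', hf', he⟩
  rw [Prod.mk.injEq] at this
  obtain ⟨h1, h2⟩ := mul_unique hS hg hg' hh hh' this.1
  exact ⟨h1, h2, this.2⟩

end RankOne

end CfsgLib.Recog
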