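import Cfsg.Agent.Recog.RankOneCentral
import Cfsg.Agent.Recog.OddTransitive.Main
import Cfsg.Agent.Recog.OddTransitive.Galois
import Cfsg.Agent.S1127

/-!
# Split rank one set-ups: the inverted elements form a cyclic group

The two point stabiliser acts on the elementary abelian group of the involutions of the point
stabiliser as a group of odd order transitive on the nonidentity elements; the inverted elements
map onto its Fitting subgroup.
-/

set_option autoImplicit false
set_option linter.style.haveILetI false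
set_option linter.unusedSectionVars false

namespace CfsgLib.Recog.RankOne

open MulAction

variable {G Ω : Type*} [Group G] [MulAction G Ω]

local notation "D[" a "," t "]" => stabilizer G a ⊓ stabilizer G (t • a)

variable {a : Ω} {t : G} {Q : Subgroup G} (hS : Cfsg.IsRankOneSetup G Ω a t Q)
  (h2 : ∃ x y : G, x ≠ 1 ∧ y ≠ 1 ∧ x ≠ y ∧ x * x = 1 ∧ y * y = 1 ∧ x * y = y * x)

include hS h2 in
/-- The inverted elements form a cyclic subgroup normal in `D`, and `C_D(t)` is cyclic modulo
their centraliser. -/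
theorem exists_kernel [Finite G] :
    ∃ k₀ ∈ D[a, t], ((Subgroup.zpowers k₀ : Subgroup G) : Set G) = Cfsg.invertedBy (D[a, t]) t ∧
      (∀ d ∈ D[a, t], ∀ c ∈ Subgroup.zpowers k₀, d * c * d⁻¹ ∈ Subgroup.zpowers k₀) ∧
      ∃ v ∈ D[a, t] ⊓ Subgroup.centralizer {t},
        (D[a, t] ⊓ Subgroup.centralizer {t} ⊓
          Subgroup.centralizer (Cfsg.invertedBy (D[a, t]) t)) ⊔ Subgroup.closure {v} =
          D[a, t] ⊓ Subgroup.centralizer {t} := by
  classical
  obtain ⟨hcentral, hclosed⟩ := invol_central hS h2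
  obtain ⟨hspec, hW⟩ := Cfsg.Agent.S1127.result hS
  obtain ⟨s0, r0, hs0, -, -, hC⟩ := exists_special hS
  set Iv := Cfsg.involutionsIn (stabilizer G a : Set G) with hIv
  let E : Subgroup G :=
    { carrier := {x | x = 1 ∨ x ∈ Iv}
      one_mem' := Or.inl rfl
      mul_mem' := by
        rintro x y (rfl | hx) (rfl | hy)
        · exact Or.inl (mul_one 1)
        · exact Or.inr (by rwa [one_mul])
        · exact Or.inr (by rwa [mul_one])
        · exact hclosed x hx y hy
      inv_mem' := by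
        rintro x (rfl | hx)
        · exact Or.inl inv_one
        · exact Or.inr (by rwa [inv_eq_of_mul_eq_one_right hx.2.2]) }
  letI : CommGroup E :=
    { (inferInstance : Group E) with
      mul_comm := fun x y => Subtype.ext (by
        show (x : G) * y = y * x
        rcases x.2 with hx | hx
        · rw [hx, one_mul, mul_one]
        rcases y.2 with hy | hy
        · rw [hy, one_mul, mul_one]
        exact (hcentral x hx).2 y (hcentral y hy).1) }
  have hconjE : ∀ d ∈ D[a, t], ∀ x ∈ E, d * x * d⁻¹ ∈ E := by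
    rintro d hd x (rfl | hx)
    · exact Or.inl (by group)
    · refine Or.inr ?_
      have h := conj_mem_invol hS (d := d⁻¹) (inv_smul_eq_iff.2 (mem_stabilizer_iff.1 hd.1).symm) hx
      rwa [inv_inv] at h
  let φ : ↥(D[a, t]) →* MulAut E :=
    MonoidHom.mk' (fun d =>
      { toFun := fun x => ⟨(d : G) * x * (d : G)⁻¹, hconjE d d.2 x x.2⟩
        invFun := fun x => ⟨(d : G)⁻¹ * x * (d : G), by
          simpa using hconjE (d : G)⁻¹ ((D[a, t]).inv_mem d.2) x x.2⟩
        left_inv := fun x => Subtype.ext (by simp [mul_assoc])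
        right_inv := fun x => Subtype.ext (by simp [mul_assoc])
        map_mul' := fun x y => Subtype.ext (by simp [mul_assoc]) })
      (fun d e => MulEquiv.ext fun x => Subtype.ext (by simp [mul_assoc]))
  have hφ : ∀ (d : ↥(D[a, t])) (x : E), ((φ d x : E) : G) = (d : G) * x * (d : G)⁻¹ :=
    fun d x => rfl
  let R : Subgroup (MulAut E) := φ.range
  letI : DistribMulAction R (Additive E) :=
    { smul := fun f x => Additive.ofMul ((f : MulAut E) x.toMul)
      one_smul := fun x => rfl
      mul_smul := fun f g x => rfl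
      smul_zero := fun f => congrArg Additive.ofMul (map_one (f : MulAut E))
      smul_add := fun f x y => congrArg Additive.ofMul (map_mul (f : MulAut E) x.toMul y.toMul) }
  have hsmul : ∀ (f : R) (x : E), f • Additive.ofMul x = Additive.ofMul ((f : MulAut E) x) :=
    fun f x => rfl
  haveI : FaithfulSMul R (Additive E) := ⟨fun {f g} h => Subtype.ext (MulEquiv.ext fun x =>
    Additive.ofMul.injective (h (Additive.ofMul x)))⟩
  haveI : Nontrivial (Additive E) :=
    ⟨⟨Additive.ofMul ⟨s0, Or.inr hs0⟩, 0, fun h =>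
      hs0.2.1 (congrArg (fun x : Additive E => ((x.toMul : E) : G)) h)⟩⟩
  have hodd : Odd (Nat.card R) :=
    (hS.odd_card).of_dvd_nat (Subgroup.card_range_dvd φ)
  have htwo : ∀ e : Additive E, 2 • e = 0 := fun e => by
    rw [two_nsmul]
    refine Additive.toMul.injective (Subtype.ext ?_)
    show ((e.toMul : E) : G) * (e.toMul : E) = 1
    rcases (e.toMul : E).2 with h | h
    · rw [h, one_mul]
    · exact h.2.2
  set K := Cfsg.invertedBy (D[a, t]) t with hK
  have hne : ∀ {e : Additive E}, e ≠ 0 → ((e.toMul : E) : G) ∈ Iv := fun {e} he =>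
    (e.toMul : E).2.resolve_left fun h => he (Additive.toMul.injective (Subtype.ext h))
  have hKmem : ∀ {k : G}, k ∈ K → k ∈ D[a, t] := fun hk => hk.1
  have htrK : ∀ x y : Additive E, x ≠ 0 → y ≠ 0 → ∃ k : G, ∃ hk : k ∈ K,
      (φ.rangeRestrict ⟨k, hKmem hk⟩ : R) • x = y := by
    intro x y hx hy
    obtain ⟨k, hk, he⟩ := inverted_transitive hS (hne hy) (hne hx)
    refine ⟨k, hk, Additive.toMul.injective (Subtype.ext ?_)⟩
    show k * ((x.toMul : E) : G) * k⁻¹ = _
    rw [← he]; group
  have htrans : ∀ x y : Additive E, x ≠ 0 → y ≠ 0 → ∃ f : R, f • x = y := fun x y hx hy =>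
    let ⟨k, _, hk⟩ := htrK x y hx hy
    ⟨_, hk⟩
  obtain ⟨hcyc, hfree, -⟩ := CfsgLib.OddTransitive.fitting_structure hodd htwo htrans
  have hCF := CfsgLib.OddTransitive.centralizer_fitting_le hodd htwo htrans
  set F := Cfsg.fittingSubgroup R with hF
  haveI hFn : F.Normal := CfsgLib.Solvable.fittingSubgroup_normal
  haveI := hcyc
  have hFab : ∀ x ∈ F, ∀ y ∈ F, x * y = y * x := fun x hx y hy => by
    letI := IsCyclic.commGroup (α := F)
    exact congrArg Subtype.val (mul_comm (⟨x, hx⟩ : F) ⟨y, hy⟩)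
  set W := D[a, t] ⊓ Subgroup.centralizer {t} ⊓ Subgroup.centralizer K with hWdef
  have hker : ∀ d : ↥(D[a, t]), φ.rangeRestrict d = 1 ↔ (d : G) ∈ W := by
    intro d
    rw [hW]
    constructor
    · intro h
      refine ⟨d.2, Subgroup.mem_centralizer_iff.2 fun x hx => ?_⟩
      have h1 := congrArg (fun f : R => (((f : MulAut E) ⟨x, Or.inr hx⟩ : E) : G)) h
      change (d : G) * x * (d : G)⁻¹ = x at h1
      exact (mul_inv_eq_iff_eq_mul.1 h1).symm
    · rintro ⟨-, h⟩
      refine Subtype.ext (MulEquiv.ext fun x => Subtype.ext ?_)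
      show (d : G) * x * (d : G)⁻¹ = x
      rcases x.2 with hx | hx
      · rw [hx]; group
      · rw [← Subgroup.mem_centralizer_iff.1 h x hx, mul_inv_cancel_right]
  -- conjugation by `t`
  let τ : ↥(D[a, t]) →* ↥(D[a, t]) :=
    MonoidHom.mk' (fun d => ⟨t * d * t, t_norm hS d d.2⟩) fun x y => Subtype.ext (by
      show t * ((x : G) * y) * t = t * x * t * (t * y * t)
      simp only [mul_assoc, ← mul_assoc t t, hS.mul_self, one_mul])
  have hττ : ∀ d, τ (τ d) = d := fun d => Subtype.ext (by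
    show t * (t * (d : G) * t) * t = d
    simp only [mul_assoc, hS.mul_self, ← mul_assoc t t, one_mul, mul_one])
  have hτker : ∀ d, φ.rangeRestrict d = 1 → φ.rangeRestrict (τ d) = 1 := fun d hd => by
    rw [hker] at hd ⊢
    have hdt := Subgroup.mem_centralizer_singleton_iff.1 hd.1.2
    rwa [show ((τ d : ↥(D[a, t])) : G) = d by
      show t * (d : G) * t = d
      rw [← hdt, mul_assoc, hS.mul_self, mul_one]]
  let σ : R →* R := MonoidHom.mk' (fun f => φ.rangeRestrict (τ (Function.surjInv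
      φ.rangeRestrict_surjective f))) fun f g => by
    rw [← map_mul, ← map_mul]
    refine mul_inv_eq_one.1 ?_
    rw [← map_inv, ← map_mul, ← map_inv, ← map_mul]
    refine hτker _ ?_
    rw [map_mul, map_inv, map_mul, Function.surjInv_eq φ.rangeRestrict_surjective,
      Function.surjInv_eq φ.rangeRestrict_surjective,
      Function.surjInv_eq φ.rangeRestrict_surjective, mul_inv_cancel]
  have hσ : ∀ d, σ (φ.rangeRestrict d) = φ.rangeRestrict (τ d) := fun d => by
    refine mul_inv_eq_one.1 ?_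
    show φ.rangeRestrict _ * _ = 1
    rw [← map_inv, ← map_mul, ← map_inv, ← map_mul]
    refine hτker _ ?_
    rw [map_mul, map_inv, Function.surjInv_eq φ.rangeRestrict_surjective, mul_inv_cancel]
  have hσσ : ∀ f, σ (σ f) = f := fun f => by
    obtain ⟨d, rfl⟩ := φ.rangeRestrict_surjective f
    rw [hσ, hσ, hττ]
  -- fixed points of `t` in `F` are trivial
  have hfix : ∀ f ∈ F, σ f = f → f = 1 := by
    intro f hf hσf
    obtain ⟨d, rfl⟩ := φ.rangeRestrict_surjective f
    rw [hσ] at hσf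
    obtain ⟨w, hw, hwd⟩ : ∃ w : G, w ∈ W ∧ t * (d : G) * t = d * w :=
      ⟨(d : G)⁻¹ * (t * d * t),
        (hker (d⁻¹ * τ d)).1 (by rw [map_mul, map_inv, hσf, inv_mul_cancel]), by group⟩
    have hwt : t * w * t = w := by
      rw [← Subgroup.mem_centralizer_singleton_iff.1 hw.1.2, mul_assoc, hS.mul_self, mul_one]
    have hw1 : w = 1 := eq_one_of_sq hS.odd_card hw.1.1 (by
      have h := congrArg (fun z => t * z * t) hwd
      have h' : (d : G) = (t * d * t) * w :=
        calc (d : G) = t * (t * d * t) * t := by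
              simp only [mul_assoc, ← mul_assoc t t, hS.mul_self, one_mul, mul_one]
          _ = t * (d * w) * t := h
          _ = (t * d * t) * (t * w * t) := by
              simp only [mul_assoc, ← mul_assoc t t, hS.mul_self, one_mul]
          _ = (t * d * t) * w := by rw [hwt]
      rw [hwd, mul_assoc] at h'
      exact (mul_eq_left).1 h'.symm)
    rw [hw1, mul_one] at hwd
    by_contra hne1
    have hdt : (d : G) * t = t * d := by
      conv_lhs => rw [← hwd]
      rw [mul_assoc, hS.mul_self, mul_one]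
    have hds : (d : G) ∈ D[a, t] ⊓ Subgroup.centralizer {s0} :=
      hC ▸ ⟨d.2, Subgroup.mem_centralizer_singleton_iff.2 hdt⟩
    refine hs0.2.1 ?_
    have h0 := hfree _ hf hne1 (Additive.ofMul ⟨s0, Or.inr hs0⟩)
      (Additive.toMul.injective (Subtype.ext (by
        show (d : G) * s0 * (d : G)⁻¹ = s0
        rw [Subgroup.mem_centralizer_singleton_iff.1 hds.2, mul_inv_cancel_right])))
    exact congrArg (fun x : Additive E => ((x.toMul : E) : G)) h0
  have hσF : ∀ f ∈ F, σ f ∈ F := by
    intro f hf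
    have hbij : Function.Bijective σ := Function.Involutive.bijective hσσ
    have hmap : F.map (MulEquiv.ofBijective σ hbij).toMonoidHom ≤ F := by
      haveI : (F.map (MulEquiv.ofBijective σ hbij).toMonoidHom).Normal :=
        hFn.map _ hbij.2
      refine le_sSup ⟨inferInstance, ?_⟩
      haveI := CfsgLib.Solvable.isNilpotent_fittingSubgroup (G := R)
      exact Group.nilpotent_of_mulEquiv
        (F.equivMapOfInjective _ (MulEquiv.ofBijective σ hbij).injective)
    exact hmap ⟨f, hf, rfl⟩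
  have hσinv : ∀ f ∈ F, σ f = f⁻¹ := fun f hf => by
    refine eq_inv_of_mul_eq_one_left (hfix _ (F.mul_mem (hσF f hf) hf) ?_)
    rw [map_mul, hσσ, hFab _ hf _ (hσF f hf)]
  -- `K` maps onto `F`
  have honto : ∀ f ∈ F, ∃ k : G, ∃ hk : k ∈ K, φ.rangeRestrict ⟨k, hKmem hk⟩ = f := by
    intro f hf
    obtain ⟨d, rfl⟩ := φ.rangeRestrict_surjective f
    have h1 := hσinv _ hf
    rw [hσ] at h1
    set w : G := (d : G) * (t * d * t) with hwdef
    have hwW : w ∈ W := (hker (d * τ d)).1 (by rw [map_mul, h1, mul_inv_cancel])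
    have htd : t * (d : G) * t = (d : G)⁻¹ * w := by rw [hwdef]; group
    have hwt : t * w * t = w := by
      rw [← Subgroup.mem_centralizer_singleton_iff.1 hwW.1.2, mul_assoc, hS.mul_self, mul_one]
    have hcomm : Commute (d : G) w := by
      have h : w = t * (d : G) * t * d := by
        conv_lhs => rw [← hwt, hwdef]
        simp only [mul_assoc, ← mul_assoc t t, hS.mul_self, one_mul, mul_one]
      show (d : G) * w = w * d
      conv_lhs => rw [h]
      rw [hwdef]; group
    obtain ⟨j, hj⟩ : Odd (orderOf w) := hS.odd_card.of_dvd_nat (by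
      rw [show w = ((⟨w, hwW.1.1⟩ : ↥(D[a, t])) : G) from rfl, Subgroup.orderOf_coe]
      exact orderOf_dvd_natCard _)
    set u := w ^ j with hu
    have huW : u ∈ W := W.pow_mem hwW j
    have hut : t * u * t = u := by
      rw [← Subgroup.mem_centralizer_singleton_iff.1 huW.1.2, mul_assoc, hS.mul_self, mul_one]
    have huu : w * u = u⁻¹ := by
      refine eq_inv_of_mul_eq_one_left ?_
      rw [hu, mul_assoc, ← pow_add, ← pow_succ', show j + j + 1 = orderOf w by omega,
        pow_orderOf_eq_one]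
    have hk : (d : G) * u ∈ K := (mem_invertedBy_iff hS.mul_self).2
      ⟨(D[a, t]).mul_mem d.2 huW.1.1,
        calc t * ((d : G) * u) * t = t * d * t * (t * u * t) := by
              simp only [mul_assoc, ← mul_assoc t t, hS.mul_self, one_mul]
          _ = (d : G)⁻¹ * u⁻¹ := by rw [htd, hut, mul_assoc, huu]
          _ = u⁻¹ * (d : G)⁻¹ := ((hcomm.pow_right j).inv_inv).eq
          _ = ((d : G) * u)⁻¹ := (mul_inv_rev _ _).symm⟩
    refine ⟨_, hk, ?_⟩
    rw [show (⟨(d : G) * u, hKmem hk⟩ : ↥(D[a, t])) = d * ⟨u, huW.1.1⟩ from rfl, map_mul,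
      (hker ⟨u, huW.1.1⟩).2 huW, mul_one]
  have hKF : ∀ {k : G} (hk : k ∈ K), φ.rangeRestrict ⟨k, hKmem hk⟩ ∈ F := by
    intro k hk
    refine hCF (Subgroup.mem_centralizer_iff.2 fun f hf => ?_)
    set x := φ.rangeRestrict ⟨k, hKmem hk⟩ with hx
    have hσx : σ x = x⁻¹ := by
      rw [hx, hσ, ← map_inv]
      exact congrArg φ.rangeRestrict (Subtype.ext ((mem_invertedBy_iff hS.mul_self).1 hk).2)
    have h1 : σ (x * f * x⁻¹) = x⁻¹ * f⁻¹ * x := by
      rw [map_mul, map_mul, map_inv, hσx, hσinv f hf, inv_inv]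
    rw [hσinv _ (hFn.conj_mem f hf x), mul_inv_rev, mul_inv_rev, inv_inv, ← mul_assoc] at h1
    -- now `x ^ 2` centralises `f⁻¹`
    have h2' : Commute (x * x) f := by
      have hc : Commute (x * x) f⁻¹ :=
        calc x * x * f⁻¹ = x * (x * f⁻¹ * x⁻¹) * x := by group
          _ = x * (x⁻¹ * f⁻¹ * x) * x := by rw [h1]
          _ = f⁻¹ * (x * x) := by group
      simpa using hc.inv_right
    obtain ⟨i, hi⟩ : Odd (orderOf x) := hodd.of_dvd_nat (orderOf_dvd_natCard x)
    have hxx : x = (x * x) ^ (i + 1) := by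
      rw [← pow_two, ← pow_mul, show 2 * (i + 1) = orderOf x + 1 by omega, pow_succ,
        pow_orderOf_eq_one, one_mul]
    rw [hxx]
    exact (h2'.pow_left _).eq.symm
  have hinj : ∀ {k k' : G} (hk : k ∈ K) (hk' : k' ∈ K),
      φ.rangeRestrict ⟨k, hKmem hk⟩ = φ.rangeRestrict ⟨k', hKmem hk'⟩ → k = k' := by
    intro k k' hk hk' h
    set w := k⁻¹ * k' with hwdef
    have hwW : w ∈ W := (hker (⟨k, hKmem hk⟩⁻¹ * ⟨k', hKmem hk'⟩)).1
      (by rw [map_mul, map_inv, h, inv_mul_cancel])
    have hwk : Commute k w := Subgroup.mem_centralizer_iff.1 hwW.2 k hk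
    have hwt : t * w * t = w := by
      rw [← Subgroup.mem_centralizer_singleton_iff.1 hwW.1.2, mul_assoc, hS.mul_self, mul_one]
    obtain ⟨-, hkt⟩ := (mem_invertedBy_iff hS.mul_self).1 hk
    obtain ⟨-, hkt'⟩ := (mem_invertedBy_iff hS.mul_self).1 hk'
    have h1 : k⁻¹ * w = w⁻¹ * k⁻¹ := by
      have e : k' = k * w := by rw [hwdef]; group
      calc k⁻¹ * w = (t * k * t) * (t * w * t) := by rw [hkt, hwt]
        _ = t * (k * w) * t := by simp only [mul_assoc, ← mul_assoc t t, hS.mul_self, one_mul]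
        _ = k'⁻¹ := by rw [← e, hkt']
        _ = w⁻¹ * k⁻¹ := by rw [e, mul_inv_rev]
    have hw2 : w * w = 1 := by
      rw [hwk.inv_left.eq] at h1
      have := mul_right_cancel h1
      calc w * w = w * w⁻¹ := by rw [← this]
        _ = 1 := mul_inv_cancel w
    have := eq_one_of_sq hS.odd_card hwW.1.1 hw2
    rw [hwdef] at this
    exact inv_mul_eq_one.1 this
  -- the generator
  obtain ⟨⟨f₀, hf₀⟩, hgen⟩ := IsCyclic.exists_generator (α := F)
  obtain ⟨k₀, hk₀, hk₀f⟩ := honto f₀ hf₀
  have hk₀D : k₀ ∈ D[a, t] := hKmem hk₀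
  have hzK : ∀ i : ℤ, k₀ ^ i ∈ K := fun i => (mem_invertedBy_iff hS.mul_self).2
    ⟨(D[a, t]).zpow_mem hk₀D i, by
      have h := ((mem_invertedBy_iff hS.mul_self).1 hk₀).2
      have hti : t⁻¹ = t := inv_eq_of_mul_eq_one_right hS.mul_self
      calc t * k₀ ^ i * t = t * k₀ ^ i * t⁻¹ := by rw [hti]
        _ = (t * k₀ * t⁻¹) ^ i := conj_zpow.symm
        _ = (k₀ ^ i)⁻¹ := by rw [hti, h, inv_zpow]⟩
  have hset : ((Subgroup.zpowers k₀ : Subgroup G) : Set G) = K := by
    refine Set.Subset.antisymm ?_ fun k hk => ?_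
    · rintro x ⟨i, rfl⟩; exact hzK i
    · obtain ⟨i, hi⟩ := Subgroup.mem_zpowers_iff.1 (hgen ⟨_, hKF hk⟩)
      refine ⟨i, hinj (hzK i) hk ?_⟩
      rw [show (⟨k₀ ^ i, hKmem (hzK i)⟩ : ↥(D[a, t])) = ⟨k₀, hk₀D⟩ ^ i from rfl, map_zpow, hk₀f]
      exact congrArg Subtype.val hi
  refine ⟨k₀, hk₀D, hset, fun d hd c hc => ?_, ?_⟩
  · -- normality: `d` is an element of `C_D(t)` times one of `K`
    obtain ⟨k, hk, hks⟩ := inverted_transitive hS (s := s0) (s' := d⁻¹ * s0 * d) hs0
      (conj_mem_invol hS hd.1 hs0)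
    set v := d * k⁻¹ with hv
    have hvD : v ∈ D[a, t] := (D[a, t]).mul_mem hd ((D[a, t]).inv_mem (hKmem hk))
    have hvs : v * s0 = s0 * v := by
      calc v * s0 = d * (k⁻¹ * s0 * k) * k⁻¹ := by rw [hv]; group
        _ = d * (d⁻¹ * s0 * d) * k⁻¹ := by rw [hks]
        _ = s0 * v := by rw [hv]; group
    have hvt : v * t = t * v := by
      have : v ∈ D[a, t] ⊓ Subgroup.centralizer {t} :=
        hC.symm ▸ ⟨hvD, Subgroup.mem_centralizer_singleton_iff.2 hvs⟩
      exact Subgroup.mem_centralizer_singleton_iff.1 this.2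
    have hkc : Commute k c := by
      obtain ⟨i, rfl⟩ := (hset ▸ hk : k ∈ ((Subgroup.zpowers k₀ : Subgroup G) : Set G))
      obtain ⟨j, rfl⟩ := hc
      exact (Commute.refl k₀).zpow_zpow i j
    have hcK : c ∈ K := hset ▸ hc
    obtain ⟨hcD, hct⟩ := (mem_invertedBy_iff hS.mul_self).1 hcK
    have e : d * c * d⁻¹ = v * c * v⁻¹ := by
      rw [show d = v * k by rw [hv]; group, mul_inv_rev]
      calc v * k * c * (k⁻¹ * v⁻¹) = v * (k * c * k⁻¹) * v⁻¹ := by group
        _ = v * c * v⁻¹ := by rw [hkc.eq, mul_inv_cancel_right]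
    rw [e]
    show v * c * v⁻¹ ∈ ((Subgroup.zpowers k₀ : Subgroup G) : Set G)
    rw [hset]
    refine (mem_invertedBy_iff hS.mul_self).2
      ⟨(D[a, t]).mul_mem ((D[a, t]).mul_mem hvD hcD) ((D[a, t]).inv_mem hvD), ?_⟩
    have hti : t⁻¹ = t := inv_eq_of_mul_eq_one_right hS.mul_self
    have hvt' : Commute v t := hvt
    calc t * (v * c * v⁻¹) * t = v * (t * c * t) * v⁻¹ := by
          rw [show t * (v * c * v⁻¹) * t = (t * v) * c * (v⁻¹ * t) by group, ← hvt'.eq,
            hvt'.inv_left.eq]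
          group
      _ = (v * c * v⁻¹)⁻¹ := by rw [hct]; group
  · -- `V / W` is cyclic
    let A : Subgroup R := (Subgroup.centralizer {t} ⊓ D[a, t]).subgroupOf (D[a, t]) |>.map
      φ.rangeRestrict
    have hirr : CfsgLib.OddTransitive.IsIrred F (Additive E) := by
      intro U hU
      by_cases hU0 : U = ⊥
      · exact Or.inl hU0
      obtain ⟨x, hxU, hx0⟩ : ∃ x ∈ U, x ≠ 0 := by
        by_contra hall
        push Not at hall
        exact hU0 ((AddSubgroup.eq_bot_iff_forall _).2 hall)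
      refine Or.inr (AddSubgroup.eq_top_iff' U |>.2 fun y => ?_)
      rcases eq_or_ne y 0 with rfl | hy0
      · exact U.zero_mem
      obtain ⟨k, hk, he⟩ := htrK x y hx0 hy0
      exact he ▸ hU _ (hKF hk) x hxU
    have hAcyc : IsCyclic A := CfsgLib.OddTransitive.cyclic_of_normalizing htwo F hFab hirr A (by
      rintro _ ⟨v, hv, rfl⟩ hcomm
      have hvF : φ.rangeRestrict v ∈ F :=
        hCF (Subgroup.mem_centralizer_iff.2 fun f hf => (hcomm f hf).symm)
      refine hfix _ hvF ?_
      rw [hσ]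
      refine congrArg φ.rangeRestrict (Subtype.ext ?_)
      show t * (v : G) * t = v
      have hvt : (v : G) * t = t * (v : G) := Subgroup.mem_centralizer_singleton_iff.1 hv.1
      rw [← hvt, mul_assoc, hS.mul_self, mul_one])
    obtain ⟨⟨_, ⟨v, hv, rfl⟩⟩, hvgen⟩ := IsCyclic.exists_generator (α := A)
    have hvV : (v : G) ∈ D[a, t] ⊓ Subgroup.centralizer {t} := ⟨v.2, hv.1⟩
    refine ⟨v, hvV, le_antisymm (sup_le inf_le_left
      ((Subgroup.closure_le _).2 (Set.singleton_subset_iff.2 hvV))) fun u hu => ?_⟩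
    let uD : ↥(D[a, t]) := ⟨u, hu.1⟩
    obtain ⟨i, hi⟩ := Subgroup.mem_zpowers_iff.1
      (hvgen ⟨φ.rangeRestrict uD, uD, ⟨hu.2, hu.1⟩, rfl⟩)
    have hi' : φ.rangeRestrict v ^ i = φ.rangeRestrict uD := by
      simpa using congrArg Subtype.val hi
    have hmem : u * ((v : G) ^ i)⁻¹ ∈ W :=
      (hker (uD * (v ^ i)⁻¹)).1 (by rw [map_mul, map_inv, map_zpow, hi', mul_inv_cancel])
    rw [show u = u * ((v : G) ^ i)⁻¹ * (v : G) ^ i by rw [inv_mul_cancel_right]]
    exact Subgroup.mul_mem_sup hmem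
      (Subgroup.zpow_mem _ (Subgroup.subset_closure (Set.mem_singleton _)) i)

end CfsgLib.Recog.RankOne
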