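import Mathlib

/-!
For a finite field of characteristic two the field automorphisms form a basis of the additive
endomorphisms, and quadratic maps are combinations of products of two automorphisms.
-/

set_option autoImplicit false

namespace CfsgLib.Recog.FieldSpan

open Module

variable {F : Type*} [Field F] [Fintype F] [CharP F 2]

theorem linearIndependent_aut :
    LinearIndependent F (fun σ : F ≃+* F => ((σ : F →+* F) : F → F)) := by
  have h := (linearIndependent_monoidHom F F).comp
    (fun σ : F ≃+* F => ((σ : F →+* F) : F →* F)) fun σ τ h =>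
      RingEquiv.ext fun x => DFunLike.congr_fun h x
  exact h

theorem card_aut [Algebra (ZMod 2) F] : Nat.card (F ≃+* F) = finrank (ZMod 2) F := by
  rw [← IsGalois.card_aut_eq_finrank (ZMod 2) F]
  refine Nat.card_congr
    { toFun := fun σ => AlgEquiv.ofRingEquiv (f := σ) fun x => by
        exact RingHom.congr_fun (RingHom.ext_zmod ((σ : F →+* F).comp (algebraMap (ZMod 2) F)) (algebraMap (ZMod 2) F)) x
      invFun := fun e => e.toRingEquiv
      left_inv := fun σ => RingEquiv.ext fun _ => rfl
      right_inv := fun e => AlgEquiv.ext fun _ => rfl }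

/-- The combination of automorphisms with given coefficients. -/
noncomputable def comb [Fintype (F ≃+* F)] (c : (F ≃+* F) → F) : F →+ F :=
  ∑ σ, (AddMonoidHom.mulLeft (c σ)).comp (σ : F →+* F).toAddMonoidHom

theorem comb_apply [Fintype (F ≃+* F)] (c : (F ≃+* F) → F) (x : F) :
    comb c x = ∑ σ, c σ * σ x := by
  simp [comb, AddMonoidHom.finsetSum_apply]

theorem comb_injective [Fintype (F ≃+* F)] : Function.Injective (comb : ((F ≃+* F) → F) → F →+ F) := by
  intro c c' h
  have h' := Fintype.linearIndependent_iff.1 (linearIndependent_aut (F := F)) (c - c') (by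
    funext x
    have := DFunLike.congr_fun h x
    rw [comb_apply, comb_apply] at this
    simp [Finset.sum_apply, sub_mul, Finset.sum_sub_distrib, this])
  exact funext fun σ => sub_eq_zero.1 (h' σ)

theorem comb_bijective [Fintype (F ≃+* F)] : Function.Bijective (comb : ((F ≃+* F) → F) → F →+ F) := by
  classical
  letI : Algebra (ZMod 2) F := ZMod.algebra F 2
  haveI : Finite (F →+ F) := Finite.of_injective _ DFunLike.coe_injective
  haveI : Finite ((F ≃+* F) → F) := inferInstance
  refine comb_injective.bijective_of_nat_card_le (le_of_eq ?_)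
  have e : Nat.card (F →+ F) = Nat.card (F →ₗ[ZMod 2] F) :=
    Nat.card_congr
      { toFun := fun f => f.toZModLinearMap 2
        invFun := fun f => f.toAddMonoidHom
        left_inv := fun f => rfl
        right_inv := fun f => rfl }
  rw [e, ← Nat.card_congr ((Module.finBasis (ZMod 2) F).constr ℕ).toEquiv, Nat.card_fun, Nat.card_fun,
    card_aut, Nat.card_fin]

theorem exists_comb [Fintype (F ≃+* F)] (f : F →+ F) :
    ∃ c : (F ≃+* F) → F, ∀ x, f x = ∑ σ, c σ * σ x := by
  obtain ⟨c, rfl⟩ := comb_bijective.2 f
  exact ⟨c, comb_apply c⟩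

theorem coeff_unique [Fintype (F ≃+* F)] {c c' : (F ≃+* F) → F}
    (h : ∀ x, ∑ σ, c σ * σ x = ∑ σ, c' σ * σ x) : c = c' :=
  comb_injective (AddMonoidHom.ext fun x => by rw [comb_apply, comb_apply, h x])

theorem exists_biadditive [Fintype (F ≃+* F)] (B : F →+ F →+ F) :
    ∃ d : (F ≃+* F) → (F ≃+* F) → F, ∀ x y, B x y = ∑ σ, ∑ τ, d σ τ * (σ x * τ y) := by
  classical
  choose e he using fun x => exists_comb (B x)
  have hadd : ∀ x x' τ, e (x + x') τ = e x τ + e x' τ := by
    intro x x' τ
    have := coeff_unique (c := e (x + x')) (c' := fun σ => e x σ + e x' σ) fun y => by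
      rw [← he, map_add, AddMonoidHom.add_apply, he, he, ← Finset.sum_add_distrib]
      exact Finset.sum_congr rfl fun σ _ => by ring
    exact congrFun this τ
  choose d hd using fun τ => exists_comb (AddMonoidHom.mk' (fun x => e x τ) fun x x' => hadd x x' τ)
  refine ⟨fun σ τ => d τ σ, fun x y => ?_⟩
  rw [he, Finset.sum_comm]
  refine Finset.sum_congr rfl fun τ _ => ?_
  rw [show e x τ = ∑ σ, d τ σ * σ x from hd τ x, Finset.sum_mul]
  exact Finset.sum_congr rfl fun σ _ => by ring

theorem bicoeff_unique [Fintype (F ≃+* F)] {d d' : (F ≃+* F) → (F ≃+* F) → F}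
    (h : ∀ x y, ∑ σ, ∑ τ, d σ τ * (σ x * τ y) = ∑ σ, ∑ τ, d' σ τ * (σ x * τ y)) : d = d' := by
  funext σ τ
  have hy : ∀ y, (fun σ => ∑ τ, d σ τ * τ y) = fun σ => ∑ τ, d' σ τ * τ y := fun y =>
    coeff_unique fun x => by
      simp only [Finset.sum_mul]
      have := h x y
      refine Eq.trans ?_ (this.trans ?_) <;>
        exact Finset.sum_congr rfl fun _ _ => Finset.sum_congr rfl fun _ _ => by ring
  exact congrFun (coeff_unique (c := d σ) (c' := d' σ) fun y => congrFun (hy y) σ) τ

theorem sum_upper_add {ι : Type*} [Fintype ι] [LinearOrder ι] {M : Type*} [AddCommMonoid M]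
    (f : ι → ι → M) (hdiag : ∀ i, f i i = 0) :
    (∑ i, ∑ j, if i < j then f i j + f j i else 0) = ∑ i, ∑ j, f i j := by
  have hsw : (∑ i, ∑ j, if i < j then f j i else 0) = ∑ i, ∑ j, if j < i then f i j else 0 := by
    rw [Finset.sum_comm]
  have : ∀ i j, (if i < j then f i j + f j i else 0) =
      (if i < j then f i j else 0) + if i < j then f j i else 0 := fun i j => by
    split <;> simp
  simp only [this, Finset.sum_add_distrib]
  rw [hsw, ← Finset.sum_add_distrib]
  refine Finset.sum_congr rfl fun i _ => ?_
  rw [← Finset.sum_add_distrib]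
  refine Finset.sum_congr rfl fun j _ => ?_
  rcases lt_trichotomy i j with h | h | h
  · simp [h, h.not_gt]
  · subst h; simp [hdiag]
  · simp [h, h.not_gt]

theorem exists_quadratic (q : F → F)
    (hq : ∀ x y z : F, q (x + y + z) + q (x + y) + q (x + z) + q (y + z) + q x + q y + q z = 0) :
    ∃ (s : Finset ((F ≃+* F) × (F ≃+* F))) (c : (F ≃+* F) × (F ≃+* F) → F),
      ∀ x : F, q x = ∑ p ∈ s, c p * (p.1 x * p.2 x) := by
  classical
  haveI : Finite (F ≃+* F) := Finite.of_injective _ DFunLike.coe_injective
  letI := Fintype.ofFinite (F ≃+* F)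
  letI : LinearOrder (F ≃+* F) := LinearOrder.lift' (Fintype.equivFin _) (Equiv.injective _)
  have h2 : ∀ x : F, x + x = 0 := CharTwo.add_self_eq_zero
  have hq0 : q 0 = 0 := by
    have := hq 0 0 0
    simp only [add_zero] at this
    linear_combination this - 3 * h2 (q 0)
  have hB : ∀ x y z : F, q (x + (y + z)) + q x + q (y + z) =
      (q (x + y) + q x + q y) + (q (x + z) + q x + q z) := fun x y z => by
    rw [← add_assoc x y z]
    linear_combination hq x y z - h2 (q (x + y)) - h2 (q (x + z)) - h2 (q x) - h2 (q y) - h2 (q z)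
  let B : F →+ F →+ F := AddMonoidHom.mk'
    (fun x => AddMonoidHom.mk' (fun y => q (x + y) + q x + q y) (hB x)) fun x x' => by
      refine AddMonoidHom.ext fun y => ?_
      show q (x + x' + y) + q (x + x') + q y = (q (x + y) + q x + q y) + (q (x' + y) + q x' + q y)
      have := hB y x x'
      rw [add_comm y (x + x'), add_comm y x, add_comm y x'] at this
      linear_combination this
  obtain ⟨d, hd⟩ := exists_biadditive B
  have hsymm : d = fun σ τ => d τ σ := bicoeff_unique fun x y => by
    rw [← hd, show B x y = B y x from by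
      show q (x + y) + q x + q y = q (y + x) + q y + q x
      rw [add_comm x y]; ring, hd, Finset.sum_comm]
    exact Finset.sum_congr rfl fun _ _ => Finset.sum_congr rfl fun _ _ => by ring
  have hdiag : ∀ σ, d σ σ = 0 := by
    intro σ
    have key : ∀ x : F, ∑ τ, d τ τ * τ (x * x) = 0 := by
      intro x
      have hBx : B x x = 0 := by
        show q (x + x) + q x + q x = 0
        rw [h2, hq0, zero_add, h2]
      rw [hd, ← Finset.sum_product'] at hBx
      rw [← Finset.sum_filter_add_sum_filter_not (Finset.univ ×ˢ Finset.univ) (fun p => p.1 = p.2)] at hBx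
      have hoff : ∑ p ∈ ((Finset.univ ×ˢ Finset.univ).filter fun p : (F ≃+* F) × (F ≃+* F) => ¬ p.1 = p.2),
          d p.1 p.2 * (p.1 x * p.2 x) = 0 := by
        refine Finset.sum_involution (fun p _ => (p.2, p.1)) ?_ ?_ ?_ ?_
        · intro p _
          rw [show d p.2 p.1 = d p.1 p.2 from (congrFun (congrFun hsymm p.1) p.2).symm,
            mul_comm (p.2 x)]
          exact h2 _
        · intro p hp _
          simp only [Finset.mem_filter] at hp
          exact fun h => hp.2 (congrArg Prod.fst h).symm
        · intro p hp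
          simp only [Finset.mem_filter, Finset.mem_product, Finset.mem_univ, true_and, and_self] at hp ⊢
          exact fun h => hp h.symm
        · intro p _; rfl
      rw [hoff, add_zero] at hBx
      rw [← hBx]
      refine Finset.sum_nbij' (fun τ => (τ, τ)) Prod.fst ?_ ?_ ?_ ?_ ?_
      · intro τ _; simp
      · intro p _; simp
      · intro τ _; rfl
      · intro p hp
        simp only [Finset.mem_coe, Finset.mem_filter] at hp
        exact Prod.ext rfl hp.2
      · intro τ _; rw [map_mul]
    have := coeff_unique (c := fun τ => d τ τ) (c' := fun _ => 0) fun y => by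
      obtain ⟨x, rfl⟩ : ∃ x : F, x * x = y := by
        obtain ⟨x, hx⟩ := (Finite.injective_iff_surjective.1 (frobenius_inj F 2)) y
        exact ⟨x, by rw [← hx, frobenius_def, pow_two]⟩
      simp only [zero_mul, Finset.sum_const_zero]
      exact key x
    exact congrFun this σ
  let q' : F → F := fun x => ∑ σ, ∑ τ, if σ < τ then d σ τ * (σ x * τ x) else 0
  have hq' : ∀ x y, q' (x + y) = q' x + q' y + B x y := by
    intro x y
    rw [hd, ← sum_upper_add (fun σ τ => d σ τ * (σ x * τ y)) (fun σ => by simp [hdiag σ])]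
    simp only [q', ← Finset.sum_add_distrib]
    refine Finset.sum_congr rfl fun σ _ => Finset.sum_congr rfl fun τ _ => ?_
    split
    · rw [map_add, map_add, show d τ σ = d σ τ from (congrFun (congrFun hsymm σ) τ).symm]; ring
    · simp
  obtain ⟨c, hc⟩ := exists_comb (AddMonoidHom.mk' (fun x => q x + q' x) fun x y => by
    rw [hq']
    show q (x + y) + (q' x + q' y + (q (x + y) + q x + q y)) = _
    linear_combination h2 (q (x + y)))
  let sq : F ≃+* F := frobeniusEquiv F 2
  refine ⟨Finset.univ, fun p => if p.1 < p.2 then d p.1 p.2 else if p.1 = p.2 then c (p.1.trans sq) else 0,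
    fun x => ?_⟩
  rw [Fintype.sum_prod_type]
  have : q x = q' x + ∑ σ, c σ * σ x := by
    rw [← hc]
    show q x = q' x + (q x + q' x)
    linear_combination -h2 (q' x)
  rw [this]
  have hre : ∑ σ, c σ * σ x = ∑ σ : F ≃+* F, c (σ.trans sq) * (σ x * σ x) := by
    refine (Fintype.sum_equiv
      { toFun := fun σ => σ.trans sq
        invFun := fun σ => σ.trans sq.symm
        left_inv := fun σ => RingEquiv.ext fun _ => by simp
        right_inv := fun σ => RingEquiv.ext fun _ => by simp } _ _ fun σ => ?_).symm
    show _ = c (σ.trans sq) * frobeniusEquiv F 2 (σ x)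
    rw [frobeniusEquiv_apply, frobenius_def, pow_two]
  rw [hre, ← Finset.sum_add_distrib]
  refine Finset.sum_congr rfl fun σ _ => ?_
  have : c (σ.trans sq) * (σ x * σ x) =
      ∑ τ, if σ = τ then c (σ.trans sq) * (σ x * τ x) else 0 := by simp
  rw [this, ← Finset.sum_add_distrib]
  refine Finset.sum_congr rfl fun τ _ => ?_
  rcases lt_trichotomy σ τ with h | h | h
  · simp [h, h.ne]
  · subst h; simp
  · simp [h.not_gt, h.ne']

end CfsgLib.Recog.FieldSpan
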