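import Mathlib
import Cfsg.Agent.Recog.FieldSpan

/-!
An elementary abelian 2-group with an automorphism transitive on the nonidentity elements is the
additive group of a field with the automorphism a multiplication; equivariant biadditive maps.
-/

set_option autoImplicit false
set_option linter.unusedSectionVars false
set_option linter.style.haveILetI false

namespace CfsgLib.Recog.SingerField

open Polynomial

theorem exists_field {M : Type*} [Group M] [Finite M] [Nontrivial M] (hM : ∀ x : M, x * x = 1)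
    (α : M ≃* M) (hα : ∀ x y : M, x ≠ 1 → y ≠ 1 → ∃ i : ℕ, (α : MulAut M) ^ i • x = y) :
    ∃ (F : Type) (_ : Field F) (_ : Fintype F) (_ : CharP F 2) (e : M ≃ F) (ω : F),
      (∀ x y, e (x * y) = e x + e y) ∧ ω ≠ 0 ∧ (∀ x, e (α x) = ω * e x) ∧
        ∀ x : F, x ≠ 0 → ∃ i : ℕ, ω ^ i = x := by
  classical
  have hinv : ∀ x : M, x⁻¹ = x := fun x => inv_eq_of_mul_eq_one_right (hM x)
  letI : CommGroup M :=
    { (inferInstance : Group M) with
      mul_comm := fun a b => by rw [← hinv (a * b), mul_inv_rev, hinv, hinv] }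
  letI : Module (ZMod 2) (Additive M) :=
    AddCommGroup.zmodModule (n := 2) fun x => by
      rw [two_nsmul]; exact hM x.toMul
  let T : Module.End (ZMod 2) (Additive M) := α.toMonoidHom.toAdditive.toZModLinearMap 2
  obtain ⟨m0, hm0⟩ := exists_ne (1 : M)
  let x0 : Additive M := Additive.ofMul m0
  have hT : ∀ (i : ℕ) (x : M), (T ^ i) (Additive.ofMul x) = Additive.ofMul ((α : MulAut M) ^ i • x) := by
    intro i
    induction i with
    | zero => intro x; simp
    | succ i ih =>
      intro x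
      rw [pow_succ', Module.End.mul_apply, ih, pow_succ', mul_smul]
      rfl
  have htr : ∀ m : Additive M, m ≠ 0 → ∀ m' : Additive M, m' ≠ 0 → ∃ i : ℕ, (T ^ i) m = m' :=
    fun m hm m' hm' => by
      obtain ⟨i, hi⟩ := hα m.toMul m'.toMul hm hm'
      exact ⟨i, by rw [← ofMul_toMul m, hT, hi, ofMul_toMul]⟩
  let I : Ideal (ZMod 2)[X] :=
    { carrier := {f | aeval T f x0 = 0}
      add_mem' := fun {f g} hf hg => by
        simp only [Set.mem_ofPred_eq] at hf hg ⊢
        rw [map_add, LinearMap.add_apply, hf, hg, add_zero]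
      zero_mem' := by simp
      smul_mem' := fun g f hf => by
        simp only [Set.mem_ofPred_eq] at hf ⊢
        rw [smul_eq_mul, map_mul, Module.End.mul_apply, hf, map_zero] }
  have hI : ∀ f, f ∈ I ↔ aeval T f x0 = 0 := fun f => Iff.rfl
  have hx0 : x0 ≠ 0 := hm0
  haveI : I.IsMaximal := by
    rw [Ideal.isMaximal_iff]
    refine ⟨fun h => hx0 (by simpa using (hI 1).1 h), fun J f hIJ hf hfJ => ?_⟩
    obtain ⟨i, hi⟩ := htr _ hf x0 hx0
    have h1 : X ^ i * f - 1 ∈ I := by
      rw [hI, map_sub, map_mul, map_pow, aeval_X, map_one, LinearMap.sub_apply,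
        Module.End.mul_apply, hi, Module.End.one_apply, sub_self]
    have h2 := J.sub_mem (J.mul_mem_left (X ^ i) hfJ) (hIJ h1)
    rwa [sub_sub_cancel] at h2
  letI : Field ((ZMod 2)[X] ⧸ I) := Ideal.Quotient.field I
  have hsurj : ∀ m : Additive M, ∃ f : (ZMod 2)[X], aeval T f x0 = m := fun m => by
    by_cases hm : m = 0
    · exact ⟨0, by simp [hm]⟩
    · obtain ⟨i, hi⟩ := htr x0 hx0 m hm
      exact ⟨X ^ i, by rwa [map_pow, aeval_X]⟩
  choose g hg using hsurj
  let R : M → (ZMod 2)[X] ⧸ I := fun m => Ideal.Quotient.mk I (g (Additive.ofMul m))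
  have hR : ∀ (m : M) f, aeval T f x0 = Additive.ofMul m → R m = Ideal.Quotient.mk I f :=
    fun m f h => Ideal.Quotient.eq.2 (by rw [hI, map_sub, LinearMap.sub_apply, hg, h, sub_self])
  have hRbij : Function.Bijective R := by
    constructor
    · intro a b h
      have := (hI _).1 (Ideal.Quotient.eq.1 h)
      rw [map_sub, LinearMap.sub_apply, hg, hg, sub_eq_zero] at this
      exact Additive.ofMul.injective this
    · intro x
      obtain ⟨f, rfl⟩ := Ideal.Quotient.mk_surjective x
      exact ⟨(aeval T f x0).toMul, hR _ f (by rw [ofMul_toMul])⟩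
  haveI : Finite ((ZMod 2)[X] ⧸ I) := Finite.of_surjective R hRbij.2
  refine ⟨(ZMod 2)[X] ⧸ I, inferInstance, Fintype.ofFinite _,
    charP_of_injective_algebraMap (algebraMap (ZMod 2) _).injective 2, Equiv.ofBijective R hRbij,
    Ideal.Quotient.mk I X, fun x y => ?_, ?_, fun x => ?_, fun x hx => ?_⟩
  · show R (x * y) = R x + R y
    rw [hR (x * y) (g (Additive.ofMul x) + g (Additive.ofMul y))
      (by rw [map_add, LinearMap.add_apply, hg, hg]; rfl), map_add]
  · intro h
    have := (hI X).1 (Ideal.Quotient.eq_zero_iff_mem.1 h)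
    rw [aeval_X] at this
    exact hm0 (α.map_eq_one_iff.1 this)
  · show R (α x) = _ * R x
    rw [hR (α x) (X * g (Additive.ofMul x))
      (by rw [map_mul, aeval_X, Module.End.mul_apply, hg]; rfl), map_mul]
  · obtain ⟨m, rfl⟩ := hRbij.2 x
    have hm : m ≠ 1 := fun h => hx (by rw [h, hR 1 0 (by simp), map_zero])
    obtain ⟨i, hi⟩ := htr x0 hx0 (Additive.ofMul m) hm
    exact ⟨i, by rw [hR m (X ^ i) (by rwa [map_pow, aeval_X]), map_pow]⟩

variable {F : Type*} [Field F] [Fintype F] [CharP F 2]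

/-- A biadditive map that scales under a generator involves only suitable pairs of automorphisms. -/
theorem coeff_scale [Fintype (F ≃+* F)] {B : F →+ F →+ F} {d : (F ≃+* F) → (F ≃+* F) → F}
    (hd : ∀ x y, B x y = ∑ σ, ∑ τ, d σ τ * (σ x * τ y)) {ω ν : F}
    (hB : ∀ x y, B (ω * x) (ω * y) = ν * B x y) (σ τ : F ≃+* F) (hne : d σ τ ≠ 0) :
    σ ω * τ ω = ν := by
  have h := congrFun (congrFun (FieldSpan.bicoeff_unique
    (d := fun σ τ => d σ τ * (σ ω * τ ω)) (d' := fun σ τ => ν * d σ τ) fun x y => by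
      have := hB x y
      rw [hd, hd, Finset.mul_sum] at this
      refine Eq.trans ?_ (this.trans ?_)
      · exact Finset.sum_congr rfl fun σ _ => Finset.sum_congr rfl fun τ _ => by
          rw [map_mul, map_mul]; ring
      · exact Finset.sum_congr rfl fun σ _ => by
          rw [Finset.mul_sum]; exact Finset.sum_congr rfl fun τ _ => by ring) σ) τ
  exact mul_left_cancel₀ hne (h.trans (mul_comm _ _))

theorem pow_ext {ω : F} (hgen : ∀ x : F, x ≠ 0 → ∃ i : ℕ, ω ^ i = x) {f g : F →*₀ F}
    (h : f ω = g ω) (x : F) : f x = g x := by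
  by_cases hx : x = 0
  · rw [hx, map_zero, map_zero]
  · obtain ⟨i, rfl⟩ := hgen x hx
    rw [map_pow, map_pow, h]

/-- If `x ↦ σ x * τ x` is additive then `σ = τ`. -/
theorem eq_of_additive {σ τ : F ≃+* F}
    (h : ∀ x y, σ (x + y) * τ (x + y) = σ x * τ x + σ y * τ y) : σ = τ := by
  refine RingEquiv.ext fun x => ?_
  have := h x 1
  rw [map_add, map_add, map_one, map_one] at this
  have h2 : σ x + τ x = 0 := by linear_combination this
  rwa [CharTwo.add_eq_zero] at h2

/-- No nonzero alternating biadditive map commutes with a generator. -/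
theorem alternating_eq_zero {ω : F} (hgen : ∀ x : F, x ≠ 0 → ∃ i : ℕ, ω ^ i = x)
    (B : F →+ F →+ F) (hB : ∀ x y, B (ω * x) (ω * y) = ω * B x y) (halt : ∀ x, B x x = 0) :
    B = 0 := by
  classical
  haveI : Finite (F ≃+* F) := Finite.of_injective _ DFunLike.coe_injective
  letI := Fintype.ofFinite (F ≃+* F)
  obtain ⟨d, hd⟩ := FieldSpan.exists_biadditive B
  have key : ∀ σ τ, d σ τ ≠ 0 → σ = τ ∧ ∀ x, σ x * σ x = x := by
    intro σ τ hne
    have h : ∀ x, σ x * τ x = x := fun x =>
      pow_ext hgen (f := (σ : F →+* F).toMonoidWithZeroHom * (τ : F →+* F).toMonoidWithZeroHom)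
        (g := MonoidWithZeroHom.id F) (coeff_scale hd hB σ τ hne) x
    have e : σ = τ := eq_of_additive fun x y => by rw [h, h, h]
    exact ⟨e, fun x => by simpa [← e] using h x⟩
  have huniq : ∀ σ τ σ' τ', d σ τ ≠ 0 → d σ' τ' ≠ 0 → (σ, τ) = (σ', τ') := by
    intro σ τ σ' τ' h h'
    obtain ⟨rfl, hx⟩ := key σ τ h
    obtain ⟨rfl, hx'⟩ := key σ' τ' h'
    have : σ = σ' := RingEquiv.ext fun x =>
      (mul_self_eq_mul_self_iff.1 ((hx x).trans (hx' x).symm)).elim id fun h => by
        rwa [CharTwo.neg_eq] at h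
    rw [this]
  have hd0 : ∀ σ τ, d σ τ = 0 := by
    intro σ τ
    by_contra hne
    have h1 := halt 1
    rw [hd, ← Finset.sum_product', Finset.sum_eq_single (σ, τ)] at h1
    · simp only [map_one, mul_one] at h1; exact hne h1
    · intro p _ hp
      by_contra hc
      exact hp (huniq p.1 p.2 σ τ (left_ne_zero_of_mul hc) hne)
    · simp
  refine AddMonoidHom.ext fun x => AddMonoidHom.ext fun y => ?_
  rw [hd]
  simp [hd0]

end CfsgLib.Recog.SingerField
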