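import Mathlib
import Cfsg.Agent.Recog.SuzukiTwo
import Cfsg.Agent.Recog.FieldSpan

/-!
Higman's theorem: a nonabelian 2-group with more than one involution and an automorphism transitive
on involutions has class two, and squares are central. The proof follows the action of the third
term of the upper central series on the second one.
-/

set_option autoImplicit false
set_option linter.unusedSectionVars false
set_option linter.style.haveILetI false

namespace CfsgLib.Recog.SuzukiTwo

open Subgroup Polynomial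
open scoped commutatorElement

/-- Inserting one coordinate. -/
theorem comb_single {F : Type*} [Field F] [Fintype F] [CharP F 2] [Fintype (F ≃+* F)]
    [DecidableEq (F ≃+* F)] (σ : F ≃+* F) (a z : F) :
    FieldSpan.comb (Pi.single σ a) z = a * σ z := by
  rw [FieldSpan.comb_apply, Finset.sum_eq_single σ]
  · rw [Pi.single_eq_same]
  · intro b _ hb; rw [Pi.single_eq_of_ne hb, zero_mul]
  · simp

/-- The multipliers attached to distinct automorphisms are not conjugate. -/
theorem mult_not_conj {F : Type*} [Field F] [Fintype F] [CharP F 2] {ω : F}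
    (hgen : ∀ x : F, x ≠ 0 → ∃ i : ℕ, ω ^ i = x) {σ τ ρ : F ≃+* F}
    (h : ρ (ω / σ ω) = ω / τ ω) : σ = τ := by
  classical
  haveI : Finite (F ≃+* F) := Finite.of_injective _ DFunLike.coe_injective
  letI := Fintype.ofFinite (F ≃+* F)
  have h1 : ∀ z : F, ρ (z / σ z) = z / τ z := by
    intro z
    by_cases hz : z = 0
    · simp [hz]
    · obtain ⟨i, rfl⟩ := hgen z hz
      rw [map_pow, map_pow, ← div_pow, ← div_pow, map_pow, h]
  have h2 : ∀ z : F, ρ z * τ z = z * ρ (σ z) := by
    intro z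
    by_cases hz : z = 0
    · simp [hz]
    · have := h1 z
      rw [map_div₀, div_eq_div_iff] at this
      · exact this
      · exact fun e => hz (σ.injective (ρ.injective (by rw [e, map_zero, map_zero])))
      · exact fun e => hz (τ.injective (by rw [e, map_zero]))
  have h3 : ∀ z : F, ρ z + τ z + z + ρ (σ z) = 0 := by
    intro z
    have := h2 (z + 1)
    simp only [map_add, map_one] at this
    have hh := h2 z
    linear_combination this - hh + (CharTwo.add_self_eq_zero z) + CharTwo.add_self_eq_zero (ρ (σ z))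
  let c : (F ≃+* F) → F := Pi.single ρ 1 + Pi.single τ 1 + Pi.single 1 1 + Pi.single (ρ * σ) 1
  have hc : c = 0 := by
    refine FieldSpan.comb_injective (AddMonoidHom.ext fun z => ?_)
    rw [FieldSpan.comb_apply, FieldSpan.comb_apply]
    simp only [c, Pi.add_apply, add_mul, Finset.sum_add_distrib, Pi.zero_apply, zero_mul,
      Finset.sum_const_zero]
    simp only [← FieldSpan.comb_apply, comb_single, one_mul]
    exact h3 z
  by_contra hne
  have hρ : ρ = ρ * σ → False := fun e => by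
    have hσ : σ = 1 := by simpa using e
    by_cases hτ1 : τ = 1
    · exact hne (hσ.trans hτ1.symm)
    · have := congrFun hc τ
      simp only [c, hσ, mul_one, Pi.add_apply, Pi.zero_apply, Pi.single_eq_same,
        Pi.single_eq_of_ne hτ1] at this
      by_cases hτρ : τ = ρ
      · subst hτρ
        simp [CharTwo.add_self_eq_zero] at this
      · simp [Pi.single_eq_of_ne hτρ] at this
  have := congrFun hc ρ
  simp only [c, Pi.add_apply, Pi.zero_apply, Pi.single_eq_same, Pi.single_eq_of_ne hρ] at this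
  by_cases hτρ : ρ = τ
  · subst hτρ
    by_cases hρ1 : ρ = 1
    · subst hρ1
      simp [CharTwo.add_self_eq_zero] at this
    · have h4 := congrFun hc (ρ * σ)
      simp only [c, Pi.add_apply, Pi.zero_apply, Pi.single_eq_same, Pi.single_eq_of_ne (Ne.symm hρ)]
        at h4
      by_cases hρσ : ρ * σ = 1
      · -- then `ρ z * ρ z = z * z`
        refine hρ1 (RingEquiv.ext fun z => ?_)
        have h5 := h2 z
        rw [show ρ (σ z) = z from RingEquiv.congr_fun hρσ z] at h5
        exact (mul_self_eq_mul_self_iff.1 h5).elim id fun e => by rwa [CharTwo.neg_eq] at e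
      · simp [Pi.single_eq_of_ne hρσ] at h4
  · rw [Pi.single_eq_of_ne hτρ] at this
    by_cases hρ1 : ρ = 1
    · subst hρ1
      have h4 := congrFun hc σ
      have hσ1 : σ ≠ 1 := fun e => hρ (by rw [e, mul_one])
      simp only [c, one_mul, Pi.add_apply, Pi.zero_apply, Pi.single_eq_same,
        Pi.single_eq_of_ne hσ1, Pi.single_eq_of_ne hne] at h4
      simp at h4
    · simp [Pi.single_eq_of_ne hρ1] at this

/-- If the nonzero values of `w / σ w` with zero form an additive subgroup then `σ` has only the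
prime field fixed. -/
theorem fixed_field_small {F : Type*} [Field F] [Fintype F] (σ : F ≃+* F) (hσ : σ ≠ 1) (A : Set F)
    (h0 : (0 : F) ∈ A) (hadd : ∀ c ∈ A, ∀ d ∈ A, c + d ∈ A)
    (hAP : ∀ c ∈ A, c ≠ 0 → ∃ w : F, w ≠ 0 ∧ c = w / σ w)
    (hPA : ∀ w : F, w ≠ 0 → w / σ w ∈ A) [CharP F 2] (e : F) (he : σ e = e) : e = 0 ∨ e = 1 := by
  classical
  have hs : ∀ w : F, w ≠ 0 → σ w ≠ 0 := fun w hw h => hw (σ.injective (by rw [h, map_zero]))
  by_cases hA : ∀ c, c ∈ A
  · by_contra hne
    push Not at hne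
    let f : {w : F // w ≠ 0} → {w : F // w ≠ 0} := fun w => ⟨w / σ w, div_ne_zero w.2 (hs _ w.2)⟩
    have hf : Function.Surjective f := fun c => by
      obtain ⟨w, hw, hw'⟩ := hAP c (hA c) c.2
      exact ⟨⟨w, hw⟩, Subtype.ext hw'.symm⟩
    have := (Finite.injective_iff_surjective.2 hf) (a₁ := ⟨e, hne.1⟩) (a₂ := ⟨1, one_ne_zero⟩)
      (Subtype.ext (by simp [f, he, hne.1]))
    exact hne.2 (congrArg Subtype.val this)
  · exfalso
    push Not at hA
    obtain ⟨t, ht⟩ := hA
    obtain ⟨t', ht'⟩ : ∃ t', σ t' ≠ t' := by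
      by_contra h
      push Not at h
      exact hσ (RingEquiv.ext h)
    let B : Set F := {w | σ w = w}
    have hmul : ∀ c ∈ A, ∀ d ∈ A, c * d ∈ A := by
      intro c hc d hd
      by_cases hcd : c * d = 0
      · rwa [hcd]
      obtain ⟨w, hw, rfl⟩ := hAP c hc (left_ne_zero_of_mul hcd)
      obtain ⟨w', hw', rfl⟩ := hAP d hd (right_ne_zero_of_mul hcd)
      rw [div_mul_div_comm, ← map_mul]
      exact hPA _ (mul_ne_zero hw hw')
    have hinv : ∀ c ∈ A, c⁻¹ ∈ A := by
      intro c hc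
      by_cases hc0 : c = 0
      · rwa [hc0, inv_zero, ← hc0]
      obtain ⟨w, hw, rfl⟩ := hAP c hc hc0
      have := hPA w⁻¹ (inv_ne_zero hw)
      rwa [map_inv₀, inv_div_inv, ← inv_div] at this
    have hsq : ∀ (C : Set F), (∀ a ∈ C, ∀ b ∈ C, a + b ∈ C) → (∀ a ∈ C, ∀ b ∈ C, a * b ∈ C) →
        (∀ a ∈ C, a⁻¹ ∈ C) → ∀ u, u ∉ C → Nat.card C * Nat.card C ≤ Fintype.card F := by
      intro C hCa hCm hCi u hu
      rw [← Nat.card_prod, ← Nat.card_eq_fintype_card]
      refine Nat.card_le_card_of_injective (fun v : C × C => (v.1 : F) + v.2 * u) ?_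
      rintro ⟨a, b⟩ ⟨a', b'⟩ h
      change (a : F) + b * u = a' + b' * u at h
      have hbb : (b : F) = b' := by
        by_contra hb
        refine hu ?_
        have hb0 : (b : F) + b' ≠ 0 := fun e => hb (CharTwo.add_eq_zero.1 e)
        have : u = ((a : F) + a') * ((b : F) + b')⁻¹ := by
          rw [eq_mul_inv_iff_mul_eq₀ hb0]
          linear_combination h + CharTwo.add_self_eq_zero ((b' : F) * u) - CharTwo.add_self_eq_zero (a : F)
        rw [this]
        exact hCm _ (hCa _ a.2 _ a'.2) _ (hCi _ (hCa _ b.2 _ b'.2))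
      rw [hbb] at h
      exact Prod.ext (Subtype.ext (add_right_cancel h)) (Subtype.ext hbb)
    have hA2 := hsq A hadd hmul hinv t ht
    have hB2 := hsq B (fun a ha b hb => by show σ (a + b) = a + b; rw [map_add, ha, hb])
      (fun a ha b hb => by show σ (a * b) = a * b; rw [map_mul, ha, hb])
      (fun a ha => by show σ a⁻¹ = a⁻¹; rw [map_inv₀, ha]) t' ht'
    have h1A : (1 : F) ∈ A := by simpa using hPA 1 one_ne_zero
    have hcard : ∀ C : Set F, (0 : F) ∈ C → (1 : F) ∈ C →
        2 ≤ Nat.card C ∧ Nat.card {x : C // (x : F) ≠ 0} + 1 = Nat.card C := by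
      intro C hC0 hC1
      refine ⟨?_, ?_⟩
      · exact Finite.one_lt_card_iff_nontrivial.2 ⟨⟨0, hC0⟩, ⟨1, hC1⟩,
          fun h => zero_ne_one (congrArg Subtype.val h)⟩
      · rw [Nat.card_congr (Equiv.subtypeEquivRight (q := fun x : C => x ≠ ⟨0, hC0⟩)
            (fun x => by simp [Subtype.ext_iff])), Nat.card_eq_fintype_card,
          Nat.card_eq_fintype_card, Fintype.card_subtype_compl, Fintype.card_subtype_eq]
        have : 0 < Fintype.card C := Fintype.card_pos_iff.2 ⟨⟨0, hC0⟩⟩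
        omega
    obtain ⟨hAc, hAc'⟩ := hcard A h0 h1A
    obtain ⟨hBc, hBc'⟩ := hcard B (map_zero σ) (map_one σ)
    have hF : Nat.card {w : F // w ≠ 0} + 1 = Fintype.card F := by
      rw [Nat.card_eq_fintype_card, Fintype.card_subtype_compl, Fintype.card_subtype_eq]
      have : 0 < Fintype.card F := Fintype.card_pos
      omega
    have hle : Nat.card {w : F // w ≠ 0} ≤
        Nat.card ({x : A // (x : F) ≠ 0} × {x : B // (x : F) ≠ 0}) := by
      choose rep hrep using fun c : {x : A // (x : F) ≠ 0} => hAP c.1 c.1.2 c.2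
      refine Nat.card_le_card_of_surjective (fun v : {x : A // (x : F) ≠ 0} × {x : B // (x : F) ≠ 0} =>
        (⟨rep v.1 * (v.2.1 : F), mul_ne_zero (hrep v.1).1 v.2.2⟩ : {w : F // w ≠ 0})) fun w => ?_
      let c : {x : A // (x : F) ≠ 0} := ⟨⟨(w : F) / σ w, hPA w w.2⟩, div_ne_zero w.2 (hs _ w.2)⟩
      have hc : (w : F) / σ w = rep c / σ (rep c) := (hrep c).2
      have hr0 := (hrep c).1
      refine ⟨(c, ⟨⟨(w : F) / rep c, ?_⟩, div_ne_zero w.2 hr0⟩), Subtype.ext ?_⟩
      · show σ ((w : F) / rep c) = w / rep c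
        rw [map_div₀, div_eq_div_iff (hs _ hr0) hr0]
        rw [div_eq_div_iff (hs _ w.2) (hs _ hr0)] at hc
        linear_combination -hc
      · show rep c * ((w : F) / rep c) = w
        rw [mul_div_cancel₀ _ hr0]
    rw [Nat.card_prod] at hle
    generalize Nat.card {x : A // (x : F) ≠ 0} = a at *
    generalize Nat.card {x : B // (x : F) ≠ 0} = b at *
    generalize Nat.card {w : F // w ≠ 0} = m at *
    rw [← hAc'] at hA2 hAc
    rw [← hBc'] at hB2 hBc
    rw [← hF] at hA2 hB2
    nlinarith [mul_self_nonneg ((a : ℤ) - b)]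

variable {P : Type*} [Group P]

theorem comm_sq_left (x y : P) :
    ⁅x * x, y⁆ = (⁅⁅x, y⁆, x⁆)⁻¹ * (⁅x, y⁆ * ⁅x, y⁆) := by
  simp [commutatorElement_def, mul_assoc]

theorem comm_sq_left' (x y : P) : ⁅x * x, y⁆ = x * ⁅x, y⁆ * x⁻¹ * ⁅x, y⁆ := by
  simp [commutatorElement_def, mul_assoc]

theorem comm_sq_right (x y : P) : ⁅x, y * y⁆ = ⁅x, y⁆ * (y * ⁅x, y⁆ * y⁻¹) := by
  simp [commutatorElement_def, mul_assoc]

theorem map_upper (β : MulAut P) (j : ℕ) {x : P} (hx : x ∈ Subgroup.upperCentralSeries P j) :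
    β x ∈ Subgroup.upperCentralSeries P j :=
  (characteristic_iff_le_comap.1 inferInstance β) hx

theorem center_le_upper {j : ℕ} (hj : 1 ≤ j) : center P ≤ Subgroup.upperCentralSeries P j := by
  intro x hx
  obtain ⟨k, rfl⟩ : ∃ k, j = k + 1 := ⟨j - 1, by omega⟩
  refine Subgroup.mem_upperCentralSeries_succ_iff.2 fun y => ?_
  rw [commutatorElement_eq_one_iff_mul_comm.2 (mem_center_iff.1 hx y).symm]
  exact one_mem _

theorem upper_step (j : ℕ) : Subgroup.upperCentralSeries P j ≤ Subgroup.upperCentralSeries P (j + 1) := fun x hx =>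
  Subgroup.mem_upperCentralSeries_succ_iff.2 fun y => by
    rw [commutatorElement_def, mul_assoc, mul_assoc, ← mul_assoc y]
    exact mul_mem hx ((inferInstance : (Subgroup.upperCentralSeries P j).Normal).conj_mem _ (inv_mem hx) y)

variable [Finite P] (hP : IsPGroup 2 P) {α : MulAut P} (hα : Trans α)
include hP hα

theorem upper_sq : ∀ (j : ℕ) {x : P}, x ∈ Subgroup.upperCentralSeries P (j + 1) →
    (∃ a b : P, a * b ≠ b * a) → x * x ∈ Subgroup.upperCentralSeries P j
  | 0, x, hx, hne => by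
      rw [Subgroup.upperCentralSeries_one] at hx
      rw [Subgroup.upperCentralSeries_zero, Subgroup.mem_bot]
      exact center_sq hP hα hne x hx
  | j + 1, x, hx, hne => Subgroup.mem_upperCentralSeries_succ_iff.2 fun y => by
      have hc := Subgroup.mem_upperCentralSeries_succ_iff.1 hx y
      have e := comm_sq_left x y
      rw [e]
      exact mul_mem (inv_mem (Subgroup.mem_upperCentralSeries_succ_iff.1 hc x)) (upper_sq j hc hne)

/-- An invariant nonabelian subgroup has centre consisting of involutions. -/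
theorem sq_one_of_central_in (H : Subgroup P) (hH : ∀ x ∈ H, α x ∈ H)
    (hne : ∃ a ∈ H, ∃ b ∈ H, a * b ≠ b * a) {u : P} (hu : u ∈ H) (hc : ∀ h ∈ H, h * u = u * h) :
    u * u = 1 := by
  have hmap : H.map (α : P →* P) = H := by
    refine Subgroup.eq_of_le_of_card_ge ?_ ?_
    · rintro _ ⟨x, hx, rfl⟩; exact hH x hx
    · rw [Nat.card_congr (H.equivMapOfInjective _ (MulEquiv.injective α)).toEquiv.symm]
  let αH : MulAut H := (α.subgroupMap H).trans (MulEquiv.subgroupCongr hmap)
  have hpow : ∀ (i : ℕ) (v : H), (((αH ^ i) v : H) : P) = (α ^ i) v := by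
    intro i
    induction i with
    | zero => intro v; simp
    | succ i ih => intro v; rw [pow_succ', MulAut.mul_apply, pow_succ', MulAut.mul_apply, ← ih v]; rfl
  have htr : Trans αH := by
    intro x y hx hx2 hy hy2
    obtain ⟨i, hi⟩ := hα x y (fun e => hx (Subtype.ext e)) (congrArg Subtype.val hx2)
      (fun e => hy (Subtype.ext e)) (congrArg Subtype.val hy2)
    exact ⟨i, Subtype.ext ((hpow i x).trans hi)⟩
  obtain ⟨a, ha, b, hb, hab⟩ := hne
  have := center_sq (hP.to_subgroup H) htr ⟨⟨a, ha⟩, ⟨b, hb⟩, fun e => hab (congrArg Subtype.val e)⟩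
    ⟨u, hu⟩ (mem_center_iff.2 fun h => Subtype.ext (hc h h.2))
  exact congrArg Subtype.val this

omit hP in
/-- A transitive automorphism fixes only the identity when there are two involutions. -/
theorem fixed_eq_one (h2 : ∃ x y : P, x ≠ y ∧ x ≠ 1 ∧ x * x = 1 ∧ y ≠ 1 ∧ y * y = 1)
    (hP' : IsPGroup 2 P) {x : P} (hx : α x = x) : x = 1 := by
  obtain ⟨k, hk⟩ := hP' x
  induction k with
  | zero => simpa using hk
  | succ k ih =>
    by_contra h1
    have hne : x ^ 2 ^ k ≠ 1 := fun e => h1 (ih e)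
    have hsq : x ^ 2 ^ k * x ^ 2 ^ k = 1 := by rw [← sq, ← pow_mul, ← pow_succ]; exact hk
    have hfix : ∀ i : ℕ, (α ^ i) (x ^ 2 ^ k) = x ^ 2 ^ k := by
      intro i
      induction i with
      | zero => simp
      | succ i ih' => rw [pow_succ', MulAut.mul_apply, ih', map_pow, hx]
    obtain ⟨u, v, huv, hu, hu2, hv, hv2⟩ := h2
    obtain ⟨i, hi⟩ := hα _ u hne hsq hu hu2
    obtain ⟨i', hi'⟩ := hα _ v hne hsq hv hv2
    exact huv (by rw [← hi, ← hi', hfix, hfix])

omit hP in
/-- An element moved only inside an invariant subgroup lies in it. -/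
theorem mem_of_moved (h2 : ∃ x y : P, x ≠ y ∧ x ≠ 1 ∧ x * x = 1 ∧ y ≠ 1 ∧ y * y = 1)
    (hP' : IsPGroup 2 P) (M : Subgroup P) (hM : ∀ x ∈ M, α x ∈ M) {x : P}
    (hx : x⁻¹ * α x ∈ M) : x ∈ M := by
  let f : M → M := fun m => ⟨(m : P)⁻¹ * α m, mul_mem (inv_mem m.2) (hM m m.2)⟩
  have hinj : Function.Injective f := by
    intro m m' h
    have h' : (m : P)⁻¹ * α m = (m' : P)⁻¹ * α m' := congrArg Subtype.val h
    have h'' : α ((m' : P) * (m : P)⁻¹) = (m' : P) * (m : P)⁻¹ := by
      rw [map_mul, map_inv, mul_inv_eq_iff_eq_mul, mul_assoc, h', mul_inv_cancel_left]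
    exact Subtype.ext (mul_inv_eq_one.1 (fixed_eq_one hα h2 hP' h'')).symm
  obtain ⟨m, hm⟩ := Finite.surjective_of_injective hinj ⟨_, hx⟩
  have h' : (m : P)⁻¹ * α m = x⁻¹ * α x := congrArg Subtype.val hm
  have h'' : α ((m : P) * x⁻¹) = (m : P) * x⁻¹ := by
    rw [map_mul, map_inv, mul_inv_eq_iff_eq_mul, mul_assoc, ← h', mul_inv_cancel_left]
  rw [← mul_inv_eq_one.1 (fixed_eq_one hα h2 hP' h'')]
  exact m.2

theorem upper_three (hne : ∃ a b : P, a * b ≠ b * a)
    (h2 : ∃ x y : P, x ≠ y ∧ x ≠ 1 ∧ x * x = 1 ∧ y ≠ 1 ∧ y * y = 1) :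
    Subgroup.upperCentralSeries P 3 ≤ Subgroup.upperCentralSeries P 2 := by
  classical
  by_contra h32
  obtain ⟨a, ha, ha2⟩ := SetLike.not_le_iff_exists.1 h32
  -- commutation with the second centre
  have hcent : ∀ c ∈ Subgroup.upperCentralSeries P 2, ∀ x, ⁅c, x⁆ ∈ center P := fun c hc x => by
    rw [← Subgroup.upperCentralSeries_one]
    exact Subgroup.mem_upperCentralSeries_succ_iff.1 hc x
  have hiff : ∀ {z : P}, z ∈ center P ↔ z * z = 1 := center_iff hP hα hne
  have hmulr : ∀ c ∈ Subgroup.upperCentralSeries P 2, ∀ x y : P, ⁅c, x * y⁆ = ⁅c, x⁆ * ⁅c, y⁆ := by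
    intro c hc x y
    have : x * ⁅c, y⁆ * x⁻¹ = ⁅c, y⁆ := by
      rw [mem_center_iff.1 (hcent c hc y) x, mul_inv_cancel_right]
    calc ⁅c, x * y⁆ = ⁅c, x⁆ * (x * ⁅c, y⁆ * x⁻¹) := by simp only [commutatorElement_def]; group
      _ = _ := by rw [this]
  have hmull : ∀ c ∈ Subgroup.upperCentralSeries P 2, ∀ c' ∈ Subgroup.upperCentralSeries P 2, ∀ x : P,
      ⁅c * c', x⁆ = ⁅c, x⁆ * ⁅c', x⁆ := by
    intro c hc c' hc' x
    have : c * ⁅c', x⁆ * c⁻¹ = ⁅c', x⁆ := by
      rw [mem_center_iff.1 (hcent c' hc' x) c, mul_inv_cancel_right]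
    calc ⁅c * c', x⁆ = c * ⁅c', x⁆ * c⁻¹ * ⁅c, x⁆ := by simp only [commutatorElement_def]; group
      _ = ⁅c', x⁆ * ⁅c, x⁆ := by rw [this]
      _ = _ := mem_center_iff.1 (hcent c hc x) _
  -- the second centre is abelian
  have hab2 : ∀ c ∈ Subgroup.upperCentralSeries P 2, ∀ c' ∈ Subgroup.upperCentralSeries P 2, c * c' = c' * c := by
    by_contra hc
    push Not at hc
    obtain ⟨c, hc, c', hc', hcc⟩ := hc
    obtain ⟨y, hy⟩ : ∃ y, ⁅a, y⁆ ∉ Subgroup.upperCentralSeries P 1 := by
      by_contra h; push Not at h; exact ha2 (Subgroup.mem_upperCentralSeries_succ_iff.2 h)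
    refine hy ?_
    rw [Subgroup.upperCentralSeries_one, hiff]
    refine sq_one_of_central_in hP hα _ (fun x hx => map_upper α 2 hx) ⟨c, hc, c', hc', hcc⟩
      (Subgroup.mem_upperCentralSeries_succ_iff.1 ha y) fun h hh => commutatorElement_eq_one_iff_mul_comm.1 ?_
    have hone : ⁅h, (1 : P)⁆ = 1 := commutatorElement_eq_one_iff_mul_comm.2 (by simp)
    have hinv : ∀ x, ⁅h, x⁻¹⁆ = ⁅h, x⁆⁻¹ := fun x =>
      eq_inv_of_mul_eq_one_left (by rw [← hmulr h hh, inv_mul_cancel, hone])
    have hcom := mem_center_iff.1 (hcent h hh a)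
    rw [show ⁅a, y⁆ = a * y * a⁻¹ * y⁻¹ from commutatorElement_def a y, hmulr h hh, hmulr h hh,
      hmulr h hh, hinv, hinv, ← hcom ⁅h, y⁆]
    group
  -- the field
  obtain ⟨u0, v0, huv0, hu0, hu02, hv0ne, hv02⟩ := h2
  have h2 : ∃ x y : P, x ≠ y ∧ x ≠ 1 ∧ x * x = 1 ∧ y ≠ 1 ∧ y * y = 1 :=
    ⟨u0, v0, huv0, hu0, hu02, hv0ne, hv02⟩
  haveI : Nontrivial (invol hP hα) := ⟨⟨u0, hu02⟩, 1, fun e => hu0 (congrArg Subtype.val e)⟩
  let αE : invol hP hα ≃* invol hP hα :=
    (α.subgroupMap (invol hP hα)).trans (MulEquiv.subgroupCongr (invol_char hP hα α))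
  have hαE : ∀ (i : ℕ) (v : invol hP hα), (((αE : MulAut _) ^ i • v : invol hP hα) : P) = (α ^ i) v := by
    intro i
    induction i with
    | zero => intro v; simp
    | succ i ih => intro v; rw [pow_succ', mul_smul, pow_succ', MulAut.mul_apply, ← ih v]; rfl
  obtain ⟨F, _, _, _, E, ω, hadd, hω0, hω, hgen⟩ := SingerField.exists_field
    (M := invol hP hα) (fun v => Subtype.ext v.2) αE fun u v hu hv => by
      obtain ⟨i, hi⟩ := hα u v (fun e => hu (Subtype.ext e)) u.2 (fun e => hv (Subtype.ext e)) v.2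
      exact ⟨i, Subtype.ext ((hαE i u).trans hi)⟩
  let val : P → F := fun x => if h : x * x = 1 then E ⟨x, h⟩ else 0
  have hval : ∀ (x : P) (h : x * x = 1), val x = E ⟨x, h⟩ := fun x h => dif_pos h
  have hvmul : ∀ {x y : P}, x * x = 1 → y * y = 1 → val (x * y) = val x + val y := by
    intro x y hx hy
    rw [hval x hx, hval y hy, ← hadd, hval (x * y) ((invol hP hα).mul_mem hx hy)]
    rfl
  have hE1 : E 1 = 0 := by
    have h := hadd 1 1
    rw [mul_one] at h
    exact left_eq_add.1 h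
  have hv1 : val 1 = 0 := by rw [hval 1 (mul_one 1)]; exact hE1
  have hv0 : ∀ {x : P}, x * x = 1 → val x = 0 → x = 1 := by
    intro x hx h
    rw [hval x hx, ← hE1] at h
    exact congrArg Subtype.val (E.injective h)
  have hvα : ∀ {x : P}, x * x = 1 → val (α x) = ω * val x := by
    intro x hx
    rw [hval x hx, ← hω, hval (α x) (by rw [← map_mul, hx, map_one])]
    rfl
  have hvsurj : ∀ z : F, ∃ x : P, x * x = 1 ∧ val x = z := fun z =>
    ⟨_, (E.symm z).2, by rw [hval _ (E.symm z).2]; exact E.apply_symm_apply z⟩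
  haveI hchar : CharP F 2 := inferInstance
  haveI : Finite (F ≃+* F) := Finite.of_injective _ DFunLike.coe_injective
  letI := Fintype.ofFinite (F ≃+* F)
  have hmuls : ∀ c ∈ Subgroup.upperCentralSeries P 2, ∀ c' ∈ Subgroup.upperCentralSeries P 2,
      (c * c') * (c * c') = (c * c) * (c' * c') := fun c hc c' hc' => by
    rw [mul_assoc, ← mul_assoc c' c c', hab2 c' hc' c hc]; group
  have hsq2 : ∀ c ∈ Subgroup.upperCentralSeries P 2, (c * c) * (c * c) = 1 := fun c hc => by
    have := upper_sq hP hα 1 hc hne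
    rw [Subgroup.upperCentralSeries_one] at this
    exact hiff.1 this
  have hsqrt : ∀ z : F, ∃ c ∈ Subgroup.upperCentralSeries P 2, val (c * c) = z := by
    obtain ⟨y, hy⟩ : ∃ y, ⁅a, y⁆ ∉ Subgroup.upperCentralSeries P 1 := by
      by_contra h; push Not at h; exact ha2 (Subgroup.mem_upperCentralSeries_succ_iff.2 h)
    have hc0 := Subgroup.mem_upperCentralSeries_succ_iff.1 ha y
    intro z
    obtain ⟨t, ht, rfl⟩ := hvsurj z
    by_cases h1 : t = 1
    · exact ⟨1, one_mem _, by rw [h1, mul_one]⟩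
    obtain ⟨i, hi⟩ := hα (⁅a, y⁆ * ⁅a, y⁆) t
      (fun e => hy (by rw [Subgroup.upperCentralSeries_one, hiff]; exact e)) (hsq2 _ hc0) h1 ht
    exact ⟨(α ^ i) ⁅a, y⁆, map_upper _ 2 hc0, by rw [← map_mul, hi]⟩
  choose sr hsr hsrv using hsqrt
  have hcsq : ∀ c ∈ Subgroup.upperCentralSeries P 2, ∀ x : P, ⁅c, x⁆ * ⁅c, x⁆ = 1 :=
    fun c hc x => hiff.1 (hcent c hc x)
  have hLwd : ∀ x : P, ∀ c ∈ Subgroup.upperCentralSeries P 2, ∀ c' ∈ Subgroup.upperCentralSeries P 2,
      val (c * c) = val (c' * c') → ⁅c, x⁆ = ⁅c', x⁆ := by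
    intro x c hc c' hc' h
    have h1 : (c * c) * (c' * c') = 1 := hv0 (by
        rw [← hmuls c hc c' hc']; exact hsq2 _ (mul_mem hc hc'))
      (by rw [hvmul (hsq2 c hc) (hsq2 c' hc'), h, CharTwo.add_self_eq_zero])
    have h2 : c * c' ∈ center P := hiff.2 (by rw [hmuls c hc c' hc', h1])
    have h3 : ⁅c * c', x⁆ = 1 := commutatorElement_eq_one_iff_mul_comm.2 (mem_center_iff.1 h2 x).symm
    rw [hmull c hc c' hc', mul_eq_one_iff_eq_inv] at h3
    rw [h3, inv_eq_of_mul_eq_one_left (hcsq c' hc' x)]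
  let L : P → F →+ F := fun x => AddMonoidHom.mk' (fun z => val ⁅sr z, x⁆) fun z z' => by
    have e : ⁅sr (z + z'), x⁆ = ⁅sr z * sr z', x⁆ := hLwd x _ (hsr _) _ (mul_mem (hsr z) (hsr z')) (by
      rw [hsrv, hmuls _ (hsr z) _ (hsr z'), hvmul (hsq2 _ (hsr z)) (hsq2 _ (hsr z')), hsrv, hsrv])
    rw [e, hmull _ (hsr z) _ (hsr z'), hvmul (hcsq _ (hsr z) x) (hcsq _ (hsr z') x)]
  have hL : ∀ x, ∀ c ∈ Subgroup.upperCentralSeries P 2, L x (val (c * c)) = val ⁅c, x⁆ := fun x c hc =>
    congrArg val (hLwd x _ (hsr _) c hc (hsrv _))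
  have hLmul : ∀ x y z, L (x * y) z = L x z + L y z := fun x y z => by
    show val _ = val _ + val _
    rw [hmulr _ (hsr z), hvmul (hcsq _ (hsr z) x) (hcsq _ (hsr z) y)]
  have hL1 : ∀ z, L 1 z = 0 := fun z => by
    show val _ = 0
    rw [commutatorElement_eq_one_iff_mul_comm.2 (show sr z * 1 = 1 * sr z by simp), hv1]
  have hLinv : ∀ x z, L x⁻¹ z = L x z := fun x z => by
    have := hLmul x⁻¹ x z
    rw [inv_mul_cancel, hL1] at this
    exact CharTwo.add_eq_zero.1 this.symm
  have hLα : ∀ x z, L (α x) (ω * z) = ω * L x z := fun x z => by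
    show L (α x) _ = ω * val ⁅sr z, x⁆
    rw [← hsrv z, ← hvα (hsq2 _ (hsr z)), map_mul, hL _ _ (map_upper α 2 (hsr z)),
      ← map_commutatorElement, hvα (hcsq _ (hsr z) x)]
    simp only [hsrv]
  have hL2 : ∀ c ∈ Subgroup.upperCentralSeries P 2, ∀ z, L c z = 0 := fun c hc z => by
    show val _ = 0
    rw [commutatorElement_eq_one_iff_mul_comm.2 (hab2 _ (hsr z) c hc), hv1]
  -- the first nonabelian term
  have hexi : ∃ i, ∃ u ∈ Subgroup.upperCentralSeries P i, ∃ v ∈ Subgroup.upperCentralSeries P i, u * v ≠ v * u := by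
    haveI := hP.isNilpotent
    obtain ⟨n, hn⟩ := Group.IsNilpotent.nilpotent' (G := P)
    obtain ⟨u, v, huv⟩ := hne
    exact ⟨n, u, by rw [hn]; trivial, v, by rw [hn]; trivial, huv⟩
  set i := Nat.find hexi with hidef
  obtain ⟨u, hu, v, hv, huv⟩ := Nat.find_spec hexi
  have hmono : Monotone (fun j => Subgroup.upperCentralSeries P j) := monotone_nat_of_le_succ upper_step
  have hi3 : 3 ≤ i := by
    by_contra hlt
    exact huv (hab2 u (hmono (show i ≤ 2 by omega) hu) v (hmono (show i ≤ 2 by omega) hv))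
  set T := Subgroup.upperCentralSeries P i with hT
  have h2T : Subgroup.upperCentralSeries P 2 ≤ T := hmono (show 2 ≤ i by omega)
  let K : Subgroup P :=
    { carrier := {x | x ∈ T ∧ ∀ z, L x z = 0}
      one_mem' := ⟨one_mem _, hL1⟩
      mul_mem' := fun {x y} hx hy => ⟨mul_mem hx.1 hy.1, fun z => by
        rw [hLmul, hx.2, hy.2, add_zero]⟩
      inv_mem' := fun {x} hx => ⟨inv_mem hx.1, fun z => by rw [hLinv, hx.2]⟩ }
  have hKα : ∀ x ∈ K, α x ∈ K := fun x hx => ⟨map_upper α i hx.1, fun z => by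
    rw [show z = ω * (ω⁻¹ * z) by rw [mul_inv_cancel_left₀ hω0], hLα, hx.2, mul_zero]⟩
  have hKab : ∀ x ∈ K, ∀ y ∈ K, x * y = y * x := by
    by_contra hc
    push Not at hc
    obtain ⟨x, hx, y, hy, hxy⟩ := hc
    obtain ⟨b, hb⟩ : ∃ b, ⁅a, b⁆ ∉ Subgroup.upperCentralSeries P 1 := by
      by_contra h; push Not at h; exact ha2 (Subgroup.mem_upperCentralSeries_succ_iff.2 h)
    have hc0 := Subgroup.mem_upperCentralSeries_succ_iff.1 ha b
    refine hb ?_
    rw [Subgroup.upperCentralSeries_one, hiff]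
    refine sq_one_of_central_in hP hα K hKα ⟨x, hx, y, hy, hxy⟩ ⟨h2T hc0, hL2 _ hc0⟩ fun k hk => ?_
    have h := hk.2 (val (⁅a, b⁆ * ⁅a, b⁆))
    rw [hL k _ hc0] at h
    exact (commutatorElement_eq_one_iff_mul_comm.1 (hv0 (hcsq _ hc0 k) h)).symm
  have hne0 : ∃ x ∈ T, ∃ z, L x z ≠ 0 := by
    by_contra h
    push Not at h
    exact huv (hKab u ⟨hu, h u hu⟩ v ⟨hv, h v hv⟩)
  -- coefficients
  let lam : (F ≃+* F) → F := fun σ => ω / σ ω
  let coef : P → (F ≃+* F) → F := fun x =>
    (Equiv.ofBijective _ (FieldSpan.comb_bijective (F := F))).symm (L x)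
  have hcoef : ∀ x, FieldSpan.comb (coef x) = L x := fun x =>
    (Equiv.ofBijective _ (FieldSpan.comb_bijective (F := F))).apply_symm_apply (L x)
  have hcu : ∀ x c, FieldSpan.comb c = L x → coef x = c := fun x c h =>
    FieldSpan.comb_injective ((hcoef x).trans h.symm)
  have hcmul : ∀ x y, coef (x * y) = coef x + coef y := fun x y => hcu _ _ (AddMonoidHom.ext fun z => by
    rw [hLmul, ← hcoef, ← hcoef, FieldSpan.comb_apply, FieldSpan.comb_apply, FieldSpan.comb_apply]
    simp only [Pi.add_apply, add_mul, Finset.sum_add_distrib])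
  have hcα : ∀ x, coef (α x) = fun σ => lam σ * coef x σ := fun x =>
    hcu _ _ (AddMonoidHom.ext fun z => by
      rw [show z = ω * (ω⁻¹ * z) by rw [mul_inv_cancel_left₀ hω0], hLα, ← hcoef,
        FieldSpan.comb_apply, FieldSpan.comb_apply, Finset.mul_sum]
      refine Finset.sum_congr rfl fun σ _ => ?_
      rw [map_mul]
      have : σ ω ≠ 0 := fun e => hω0 (σ.injective (by rw [e, map_zero]))
      simp only [lam]
      field_simp)
  have hc1 : coef 1 = 0 := hcu _ _ (AddMonoidHom.ext fun z => by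
    rw [hL1, FieldSpan.comb_apply]; simp)
  letI : Algebra (ZMod 2) F := ZMod.algebra F 2
  have hpoly : ∀ p : (ZMod 2)[X], ∀ x ∈ T, ∃ x' ∈ T, coef x' = fun σ => aeval (lam σ) p * coef x σ := by
    intro p
    induction p using Polynomial.induction_on' with
    | add p q hp hq =>
      intro x hx
      obtain ⟨x1, h1, e1⟩ := hp x hx
      obtain ⟨x2, h2, e2⟩ := hq x hx
      exact ⟨x1 * x2, mul_mem h1 h2, by
        rw [hcmul, e1, e2]; funext σ; simp [map_add, add_mul]⟩
    | monomial n b =>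
      intro x hx
      rcases (show b = 0 ∨ b = 1 by revert b; decide) with rfl | rfl
      · exact ⟨1, one_mem _, by rw [hc1]; funext σ; simp⟩
      · refine ⟨(α ^ n) x, map_upper _ i hx, ?_⟩
        have : ∀ m : ℕ, coef ((α ^ m) x) = fun σ => lam σ ^ m * coef x σ := by
          intro m
          induction m with
          | zero => simp
          | succ m ih =>
            rw [pow_succ', MulAut.mul_apply, hcα, ih]
            funext σ
            ring
        rw [this]
        funext σ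
        simp [Polynomial.aeval_monomial]
  -- a pure element
  obtain ⟨σ, x, hxT, b, hb, hpure⟩ : ∃ σ : F ≃+* F, ∃ x ∈ T, ∃ b : F, b ≠ 0 ∧ ∀ z, L x z = b * σ z := by
    have hex : ∃ m, ∃ x ∈ T, coef x ≠ 0 ∧ (Finset.univ.filter fun σ => coef x σ ≠ 0).card = m := by
      obtain ⟨x, hx, z, hz⟩ := hne0
      exact ⟨_, x, hx, fun h => hz (by rw [← hcoef, h, FieldSpan.comb_apply]; simp), rfl⟩
    obtain ⟨x, hx, hx0, hxm⟩ := Nat.find_spec hex
    obtain ⟨σ, hσ⟩ := Function.ne_iff.1 hx0
    simp only [Pi.zero_apply] at hσ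
    refine ⟨σ, x, hx, coef x σ, hσ, fun z => ?_⟩
    rw [← hcoef, FieldSpan.comb_apply, Finset.sum_eq_single σ _ (by simp)]
    intro τ _ hτ
    by_contra h
    have hτ0 : coef x τ ≠ 0 := left_ne_zero_of_mul h
    obtain ⟨x', hx', e'⟩ := hpoly (minpoly (ZMod 2) (lam σ)) x hx
    have hτ' : coef x' τ ≠ 0 := by
      rw [e']
      refine mul_ne_zero (fun h0 => hτ ?_) hτ0
      haveI : Module.Finite (ZMod 2) F := Module.Finite.of_finite
      have hmp : minpoly (ZMod 2) (lam σ) = minpoly (ZMod 2) (lam τ) :=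
        minpoly.eq_of_irreducible_of_monic (minpoly.irreducible (IsIntegral.of_finite _ _)) h0
          (minpoly.monic (IsIntegral.of_finite _ _))
      obtain ⟨g, hg⟩ := (Normal.minpoly_eq_iff_mem_orbit F).1 hmp
      exact mult_not_conj hgen (ρ := g.toRingEquiv) hg
    have hlt : (Finset.univ.filter fun ρ => coef x' ρ ≠ 0).card < Nat.find hex := by
      rw [← hxm]
      refine Finset.card_lt_card ⟨fun ρ hρ => ?_, fun hsub => ?_⟩
      · simp only [Finset.mem_filter, Finset.mem_univ, true_and, e'] at hρ ⊢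
        exact right_ne_zero_of_mul hρ
      · have := hsub (show σ ∈ Finset.univ.filter fun ρ => coef x ρ ≠ 0 by simp [hσ])
        simp [e', minpoly.aeval] at this
    exact Nat.find_min hex hlt ⟨x', hx', fun h => hτ' (by rw [h]; rfl), rfl⟩
  -- the automorphism is not the identity
  have hσ1 : σ ≠ 1 := by
    rintro rfl
    refine hb ?_
    have hK : x⁻¹ * α x ∈ K := ⟨mul_mem (inv_mem hxT) (map_upper α i hxT), fun z => by
      rw [hLmul, hLinv, hpure, show z = ω * (ω⁻¹ * z) by rw [mul_inv_cancel_left₀ hω0], hLα, hpure]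
      simp only [RingAut.one_apply]
      linear_combination (CharTwo.add_self_eq_zero (b * (ω * (ω⁻¹ * z))))⟩
    have := (mem_of_moved hα h2 hP K hKα hK).2 1
    rw [hpure, map_one, mul_one] at this
    exact this
  have hbij : Function.Surjective (L x) := fun w =>
    ⟨σ.symm (b⁻¹ * w), by rw [hpure, RingEquiv.apply_symm_apply, mul_inv_cancel_left₀ hb]⟩
  rcases Nat.lt_or_ge 3 i with hi4 | hi4
  · -- `L x` is idempotent, hence the identity
    have hR : ∀ r ∈ Subgroup.upperCentralSeries P (i - 1), ∀ r' ∈ Subgroup.upperCentralSeries P (i - 1),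
        r * r' = r' * r := by
      intro r hr r' hr'
      by_contra hc
      exact Nat.find_min hexi (show i - 1 < Nat.find hexi by omega) ⟨r, hr, r', hr', hc⟩
    have h3R : Subgroup.upperCentralSeries P 3 ≤ Subgroup.upperCentralSeries P (i - 1) :=
      hmono (show 3 ≤ i - 1 by omega)
    have hx2 : x * x ∈ Subgroup.upperCentralSeries P (i - 1) := upper_sq hP hα (i - 1) (by
      rw [show i - 1 + 1 = i by omega]; exact hxT) hne
    have hid : ∀ z, L x (L x z) = L x z := by
      obtain ⟨r0, hr0, hr04⟩ : ∃ r ∈ Subgroup.upperCentralSeries P 3, (r * r) * (r * r) ≠ 1 := by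
        by_contra h
        push Not at h
        refine ha2 ?_
        have hs : (a * a) * (a * a) = 1 := h a ha
        have ha' := h3R ha
        obtain ⟨c, hc, hcv⟩ : ∃ c ∈ Subgroup.upperCentralSeries P 2, val (c * c) = val (a * a) :=
          ⟨_, hsr _, hsrv _⟩
        have hcR := h3R (upper_step 2 hc)
        have hac : a * c ∈ center P := hiff.2 (by
          have e : (a * c) * (a * c) = (a * a) * (c * c) := by
            rw [mul_assoc, ← mul_assoc c a c, hR c hcR a ha']; group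
          rw [e]
          refine hv0 ?_ ?_
          · have hmm := (invol hP hα).mul_mem hs (hsq2 c hc)
            exact hmm
          · rw [hvmul hs (hsq2 c hc), hcv, CharTwo.add_self_eq_zero])
        have := mul_mem (center_le_upper (j := 2) (by omega) hac) (inv_mem hc)
        rwa [mul_inv_cancel_right] at this
      intro z
      by_cases hz : z = 0
      · rw [hz, map_zero, map_zero]
      obtain ⟨t, ht, rfl⟩ := hvsurj z
      obtain ⟨j, hj⟩ := hα _ t hr04 (hsq2 _ (upper_sq hP hα 2 hr0 hne))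
        (fun e => hz (by rw [e, hv1])) ht
      set r := (α ^ j) r0 with hrdef
      have hr : r ∈ Subgroup.upperCentralSeries P 3 := map_upper _ 3 hr0
      have hrr : r * r ∈ Subgroup.upperCentralSeries P 2 := upper_sq hP hα 2 hr hne
      have hrt : t = (r * r) * (r * r) := by rw [← hj, hrdef, map_mul, map_mul]
      set d := ⁅r, x⁆ with hddef
      have hd : d ∈ Subgroup.upperCentralSeries P 2 := Subgroup.mem_upperCentralSeries_succ_iff.1 hr x
      have hdd : L x (val t) = val (d * d) := by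
        rw [hrt, hL x _ hrr]
        congr 1
        have e : ⁅r * r, x⁆ = r * d * r⁻¹ * d := comm_sq_left' r x
        rw [e, hR r (h3R hr) d (h3R (upper_step 2 hd)), mul_inv_cancel_right]
      rw [hdd, hL x _ hd]
      have e : ⁅r, x * x⁆ = d * (x * d * x⁻¹) := comm_sq_right r x
      rw [commutatorElement_eq_one_iff_mul_comm.2 (hR r (h3R hr) _ hx2),
        show x * d * x⁻¹ = ⁅d, x⁆⁻¹ * d by simp only [commutatorElement_def]; group,
        inv_eq_of_mul_eq_one_right (hcsq d hd x), ← mul_assoc,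
        mem_center_iff.1 (hcent d hd x) d, mul_assoc] at e
      have := congrArg val e
      rw [hvmul (hcsq d hd x) (hsq2 d hd), hv1, eq_comm, CharTwo.add_eq_zero] at this
      exact this
    refine hσ1 (RingEquiv.ext fun z => ?_)
    have h1 : ∀ w, L x w = w := fun w => by obtain ⟨w, rfl⟩ := hbij w; exact hid w
    have hb1 := h1 1
    rw [hpure, map_one, mul_one] at hb1
    have hz := h1 z
    rw [hpure, hb1, one_mul] at hz
    exact hz
  · -- the case of the third centre
    have hi : i = 3 := by omega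
    have hT3 : T = Subgroup.upperCentralSeries P 3 := by rw [hT, hi]
    let C : P → P → F := fun x y => val (⁅x, y⁆ * ⁅x, y⁆)
    have hCmem : ∀ {x y : P}, x ∈ T → ⁅x, y⁆ ∈ Subgroup.upperCentralSeries P 2 := fun {x y} hx =>
      Subgroup.mem_upperCentralSeries_succ_iff.1 (hT3 ▸ hx) y
    have hcen2 : ∀ {c z : P}, z ∈ center P → (z * c) * (z * c) = (z * z) * (c * c) := fun {c z} hz => by
      rw [mul_assoc, ← mul_assoc c z c, mem_center_iff.1 hz c]; group
    have hC2 : ∀ x ∈ T, ∀ y y', C x (y * y') = C x y + C x y' := by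
      intro x hx y y'
      have hc' := hCmem (y := y') hx
      have hz : ⁅y, ⁅x, y'⁆⁆ ∈ center P := by
        rw [← commutatorElement_inv]; exact inv_mem (hcent _ hc' y)
      have hzc : y * ⁅x, y'⁆ * y⁻¹ = ⁅y, ⁅x, y'⁆⁆ * ⁅x, y'⁆ := by
        simp only [commutatorElement_def]; group
      have e : ⁅x, y * y'⁆ = ⁅x, y⁆ * (y * ⁅x, y'⁆ * y⁻¹) := by
        simp only [commutatorElement_def]; group
      show val (_ * _) = val _ + val _
      rw [e, hzc, hmuls _ (hCmem hx) _ (mul_mem (center_le_upper (by omega) hz) hc'), hcen2 hz,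
        hiff.1 hz, one_mul, hvmul (hsq2 _ (hCmem hx)) (hsq2 _ hc')]
    have hC1 : ∀ x ∈ T, ∀ x' ∈ T, ∀ y, C (x * x') y = C x y + C x' y := by
      intro x hx x' hx' y
      have hc' := hCmem (y := y) hx'
      have hz : ⁅x, ⁅x', y⁆⁆ ∈ center P := by
        rw [← commutatorElement_inv]; exact inv_mem (hcent _ hc' x)
      have e : ⁅x * x', y⁆ = (⁅x, ⁅x', y⁆⁆ * ⁅x', y⁆) * ⁅x, y⁆ := by
        simp only [commutatorElement_def]; group
      show val (_ * _) = val _ + val _
      rw [e, hmuls _ (mul_mem (center_le_upper (by omega) hz) hc') _ (hCmem hx), hcen2 hz,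
        hiff.1 hz, one_mul, hvmul (hsq2 _ hc') (hsq2 _ (hCmem hx)), add_comm]
    have hx4 : ∀ x ∈ T, x * x ∈ Subgroup.upperCentralSeries P 2 := fun x hx =>
      upper_sq hP hα 2 (hT3 ▸ hx) hne
    have hiii : ∀ x ∈ T, ∀ y, L y (val ((x * x) * (x * x))) = C x y + L x (C x y) := by
      intro x hx y
      rw [hL y _ (hx4 x hx), hL x _ (hCmem hx)]
      have e := comm_sq_left x y
      rw [e, inv_eq_of_mul_eq_one_right (hcsq _ (hCmem hx) x),
        hvmul (hcsq _ (hCmem hx) x) (hsq2 _ (hCmem hx)), add_comm]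
    -- the pure elements with this automorphism
    let A : Set F := {c | ∃ y ∈ T, ∀ z, L y z = c * σ z}
    have hAadd : ∀ c ∈ A, ∀ d ∈ A, c + d ∈ A := by
      rintro c ⟨y, hy, hy'⟩ d ⟨y', hy1, hy1'⟩
      exact ⟨y * y', mul_mem hy hy1, fun z => by rw [hLmul, hy', hy1', add_mul]⟩
    have hAlam : ∀ c ∈ A, lam σ * c ∈ A := by
      rintro c ⟨y, hy, hy'⟩
      refine ⟨α y, map_upper α i hy, fun z => ?_⟩
      have h := hLα y (ω⁻¹ * z)
      rw [mul_inv_cancel_left₀ hω0, hy', map_mul, map_inv₀] at h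
      have : σ ω ≠ 0 := fun e => hω0 (σ.injective (by rw [e, map_zero]))
      rw [h]
      simp only [lam]
      field_simp
    -- a nonzero coefficient has a fixed point
    have hker : ∀ y ∈ T, ∀ c : F, c ≠ 0 → (∀ z, L y z = c * σ z) →
        (y * y) * (y * y) = 1 ∧ ∃ w, w ≠ 0 ∧ c * σ w = w := by
      intro y hy c hc hy'
      have h4 : (y * y) * (y * y) = 1 := by
        refine hv0 (hsq2 _ (hx4 y hy)) ?_
        have h := hL y _ (hx4 y hy)
        rw [commutatorElement_eq_one_iff_mul_comm.2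
          (show (y * y) * y = y * (y * y) from mul_assoc y y y), hv1, hy'] at h
        exact σ.injective (by rw [map_zero]; exact (mul_eq_zero.1 h).resolve_left hc)
      refine ⟨h4, ?_⟩
      by_contra hno
      push Not at hno
      have hinj : Function.Injective fun z => L y z + z := by
        intro z z' h
        by_contra hne'
        refine hno (z + z') (fun e => hne' (CharTwo.add_eq_zero.1 e)) ?_
        rw [← hy', map_add, ← CharTwo.add_eq_zero]
        linear_combination h + CharTwo.add_self_eq_zero (L y z' + z')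
      obtain ⟨z, hz⟩ := Finite.surjective_of_injective hinj (val (y * y))
      obtain ⟨c', hc', rfl⟩ : ∃ c' ∈ Subgroup.upperCentralSeries P 2, val (c' * c') = z := ⟨_, hsr z, hsrv z⟩
      have hy2 : y * y ∈ center P := hiff.2 h4
      have e : (y * c') * (y * c') = (⁅c', y⁆⁻¹ * (c' * c')) * (y * y) := by
        have := mem_center_iff.1 hy2 c'
        calc (y * c') * (y * c') = (y * c' * y⁻¹) * ((y * y) * c') := by group
          _ = (y * c' * y⁻¹) * (c' * (y * y)) := by rw [this]
          _ = _ := by simp only [commutatorElement_def]; group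
      have hzero : (y * c') * (y * c') = 1 := by
        rw [e, inv_eq_of_mul_eq_one_right (hcsq c' hc' y)]
        have h1 : ⁅c', y⁆ * (c' * c') ∈ invol hP hα :=
          (invol hP hα).mul_mem (hcsq c' hc' y) (hsq2 c' hc')
        refine hv0 ((invol hP hα).mul_mem h1 h4) ?_
        rw [hvmul h1 h4, hvmul (hcsq c' hc' y) (hsq2 c' hc'), ← hL y c' hc']
        change L y (val (c' * c')) + val (c' * c') = val (y * y) at hz
        rw [hz, CharTwo.add_self_eq_zero]
      have hyc : y ∈ Subgroup.upperCentralSeries P 2 := by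
        have := mul_mem (center_le_upper (j := 2) (by omega) (hiff.2 hzero)) (inv_mem hc')
        rwa [mul_inv_cancel_right] at this
      have h := hy' 1
      rw [hL2 y hyc, map_one, mul_one] at h
      exact hc h.symm
    have hlampow : ∀ m : ℕ, lam σ ^ m = ω ^ m / σ (ω ^ m) := fun m => by
      rw [map_pow, ← div_pow]
    have hPA : ∀ w : F, w ≠ 0 → w / σ w ∈ A := by
      obtain ⟨w0, hw0, hw0'⟩ := (hker x hxT b hb hpure).2
      intro w hw
      obtain ⟨m, hm⟩ := hgen (w / w0) (div_ne_zero hw hw0)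
      have hpw : ∀ k : ℕ, lam σ ^ k * b ∈ A := by
        intro k
        induction k with
        | zero => rw [pow_zero, one_mul]; exact ⟨x, hxT, hpure⟩
        | succ k ih => rw [pow_succ', mul_assoc]; exact hAlam _ ih
      have hs0 : σ w0 ≠ 0 := fun e => hw0 (σ.injective (by rw [e, map_zero]))
      have hsw : σ w ≠ 0 := fun e => hw (σ.injective (by rw [e, map_zero]))
      have hb' : b = w0 / σ w0 := by rw [eq_div_iff hs0]; exact hw0'
      have := hpw m
      rw [hlampow, hm, hb', map_div₀] at this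
      convert this using 1
      field_simp
    have hAP : ∀ c ∈ A, c ≠ 0 → ∃ w : F, w ≠ 0 ∧ c = w / σ w := by
      rintro c ⟨y, hy, hy'⟩ hc
      obtain ⟨w, hw, hw'⟩ := (hker y hy c hc hy').2
      refine ⟨w, hw, ?_⟩
      rw [eq_div_iff (fun e => hw (σ.injective (by rw [e, map_zero])))]
      exact hw'
    -- the fixed field is the prime field
    have hfix : ∀ e : F, σ e = e → e = 0 ∨ e = 1 :=
      fixed_field_small σ hσ1 A ⟨1, one_mem _, fun z => by rw [hL1, zero_mul]⟩ hAadd hAP hPA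
    have hr : ∀ {w w' : F}, w ≠ 0 → w / σ w = w' / σ w' → w' ≠ 0 → w = w' := by
      intro w w' hw he hw'
      have hsw : σ w ≠ 0 := fun e => hw (σ.injective (by rw [e, map_zero]))
      have hsw' : σ w' ≠ 0 := fun e => hw' (σ.injective (by rw [e, map_zero]))
      have : σ (w / w') = w / w' := by
        rw [map_div₀, div_eq_div_iff hsw' hw']
        rw [div_eq_div_iff hsw hsw'] at he
        linear_combination -he
      rcases hfix _ this with h | h
      · exact absurd h (div_ne_zero hw hw')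
      · exact (div_eq_one_iff_eq hw').1 h
    -- each value is zero or the fixed point
    have hCval : ∀ y ∈ T, ∀ c : F, c ≠ 0 → (∀ z, L y z = c * σ z) → ∀ p,
        C y p = 0 ∨ c = C y p / σ (C y p) := by
      intro y hy c hc hy' p
      by_cases h0 : C y p = 0
      · exact Or.inl h0
      right
      have h := hiii y hy p
      rw [(hker y hy c hc hy').1, hv1, map_zero, hy', eq_comm, CharTwo.add_eq_zero] at h
      rw [eq_div_iff (fun e => h0 (σ.injective (by rw [e, map_zero])))]
      exact h.symm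
    have hdisj : ∀ p, ∀ y ∈ T, ∀ c : F, c ≠ 0 → (∀ z, L y z = c * σ z) →
        ∀ y' ∈ T, ∀ c' : F, c' ≠ 0 → (∀ z, L y' z = c' * σ z) → c ≠ c' →
          C y p = 0 → C y' p = 0 := by
      intro p y hy c hc hy' y' hy1 c' hc' hy1' hcc h0
      by_contra hne'
      have hcc0 : c + c' ≠ 0 := fun e => hcc (CharTwo.add_eq_zero.1 e)
      have h1 := (hCval (y * y') (mul_mem hy hy1) (c + c') hcc0
        (fun z => by rw [hLmul, hy', hy1', add_mul]) p)
      rw [hC1 y hy y' hy1, h0, zero_add] at h1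
      have h2 := (hCval y' hy1 c' hc' hy1' p).resolve_left hne'
      have h3 := h2.trans (h1.resolve_left hne').symm
      exact hc (left_eq_add.1 (by rw [add_comm]; exact h3))
    -- a second coefficient
    have hthird : ∀ c : F, ∃ d ∈ A, d ≠ 0 ∧ d ≠ c := by
      intro c
      have hu : val u0 ≠ 0 := fun e => hu0 (hv0 hu02 e)
      have hv : val v0 ≠ 0 := fun e => hv0ne (hv0 hv02 e)
      have hd : ∀ w : F, w ≠ 0 → w / σ w ≠ 0 := fun w hw =>
        div_ne_zero hw fun e => hw (σ.injective (by rw [e, map_zero]))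
      have huv : val u0 / σ (val u0) ≠ val v0 / σ (val v0) := by
        intro e
        refine huv0 ?_
        have h := hr hu e hv
        have h2 : u0 * v0 = 1 := hv0 ((invol hP hα).mul_mem hu02 hv02) (by
          rw [hvmul hu02 hv02, h, CharTwo.add_self_eq_zero])
        rw [mul_eq_one_iff_eq_inv] at h2
        rw [h2, inv_eq_of_mul_eq_one_right hv02]
      by_cases h : val u0 / σ (val u0) = c
      · exact ⟨_, hPA _ hv, hd _ hv, fun e => huv (h.trans e.symm)⟩
      · exact ⟨_, hPA _ hu, hd _ hu, h⟩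
    have hall : ∀ p, ∀ y ∈ T, ∀ c : F, c ≠ 0 → (∀ z, L y z = c * σ z) →
        ∀ y' ∈ T, ∀ c' : F, c' ≠ 0 → (∀ z, L y' z = c' * σ z) → C y p = 0 → C y' p = 0 := by
      intro p y hy c hc hy' y' hy1 c' hc' hy1' h0
      by_cases hcc : c = c'
      · subst hcc
        obtain ⟨d, ⟨yd, hyd, hyd'⟩, hd0, hdc⟩ := hthird c
        exact hdisj p yd hyd d hd0 hyd' y' hy1 c hc hy1' hdc
          (hdisj p y hy c hc hy' yd hyd d hd0 hyd' (Ne.symm hdc) h0)
      · exact hdisj p y hy c hc hy' y' hy1 c' hc' hy1' hcc h0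
    have hC1p : ∀ y ∈ T, C y 1 = 0 := fun y _ => by
      show val _ = 0
      rw [commutatorElement_eq_one_iff_mul_comm.2 (show y * 1 = 1 * y by simp), mul_one, hv1]
    let M : Subgroup P :=
      { carrier := {p | ∀ y ∈ T, ∀ c : F, c ≠ 0 → (∀ z, L y z = c * σ z) → C y p = 0}
        one_mem' := fun y hy _ _ _ => hC1p y hy
        mul_mem' := fun {p q} hp hq y hy c hc hy' => by
          rw [hC2 y hy, hp y hy c hc hy', hq y hy c hc hy', add_zero]
        inv_mem' := fun {p} hp y hy c hc hy' => by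
          have := hC2 y hy p⁻¹ p
          rw [inv_mul_cancel, hC1p y hy, hp y hy c hc hy', add_zero] at this
          exact this.symm }
    have hback : ∀ y ∈ T, ∀ c : F, c ≠ 0 → (∀ z, L y z = c * σ z) → ∀ p,
        ∃ y0 ∈ T, ∃ c0 : F, c0 ≠ 0 ∧ (∀ z, L y0 z = c0 * σ z) ∧ C y (α p) = ω * C y0 p := by
      intro y hy c hc hy' p
      have e : α (α⁻¹ y) = y := α.apply_symm_apply y
      refine ⟨α⁻¹ y, map_upper α⁻¹ i hy, ω⁻¹ * c * σ ω, mul_ne_zero
        (mul_ne_zero (inv_ne_zero hω0) hc) (fun h => hω0 (σ.injective (by rw [h, map_zero]))),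
        fun z => ?_, ?_⟩
      · have h := hLα (α⁻¹ y) z
        rw [e, hy', map_mul] at h
        rw [eq_inv_mul_iff_mul_eq₀ hω0 |>.2 h.symm]
        ring
      · show val _ = ω * val _
        rw [← hvα (hsq2 _ (hCmem (map_upper α⁻¹ i hy))), map_mul, map_commutatorElement, e]
    have hM : ∀ p ∈ M, α p ∈ M := by
      intro p hp y hy c hc hy'
      obtain ⟨y0, hy0, c0, hc0, hy0', e⟩ := hback y hy c hc hy' p
      rw [e, hp y0 hy0 c0 hc0 hy0', mul_zero]
    have hMtop : ∀ p, p ∈ M := fun p => mem_of_moved hα h2 hP M hM (by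
      intro y hy c hc hy'
      have hinv : C y p⁻¹ = C y p := by
        have := hC2 y hy p⁻¹ p
        rw [inv_mul_cancel, hC1p y hy] at this
        exact CharTwo.add_eq_zero.1 this.symm
      rw [hC2 y hy, hinv, CharTwo.add_eq_zero]
      obtain ⟨y0, hy0, c0, hc0, hy0', e⟩ := hback y hy c hc hy' p
      by_cases h0 : C y p = 0
      · rw [h0, e, hall p y hy c hc hy' y0 hy0 c0 hc0 hy0' h0, mul_zero]
      · have h1 : C y (α p) ≠ 0 := by
          rw [e]
          exact mul_ne_zero hω0 fun h => h0 (hall p y0 hy0 c0 hc0 hy0' y hy c hc hy' h)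
        exact hr h0 (((hCval y hy c hc hy' p).resolve_left h0).symm.trans
          ((hCval y hy c hc hy' (α p)).resolve_left h1)) h1)
    have hx2 : x ∈ Subgroup.upperCentralSeries P 2 := Subgroup.mem_upperCentralSeries_succ_iff.2 fun p => by
      rw [Subgroup.upperCentralSeries_one, hiff]
      exact hv0 (hsq2 _ (hCmem hxT)) (hMtop p x hxT b hb hpure)
    have h := hpure 1
    rw [hL2 x hx2, map_one, mul_one] at h
    exact hb h.symm

/-- The second centre of a nonabelian 2-group with a transitive automorphism is everything. -/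
theorem upper_two_eq_top (hne : ∃ a b : P, a * b ≠ b * a)
    (h2 : ∃ x y : P, x ≠ y ∧ x ≠ 1 ∧ x * x = 1 ∧ y ≠ 1 ∧ y * y = 1) :
    Subgroup.upperCentralSeries P 2 = ⊤ := by
  haveI : Fact (Nat.Prime 2) := ⟨Nat.prime_two⟩
  haveI := hP.isNilpotent
  obtain ⟨n, hn⟩ := Group.IsNilpotent.nilpotent' (G := P)
  have h3 := upper_three hP hα hne h2
  have hall : ∀ k, Subgroup.upperCentralSeries P k ≤ Subgroup.upperCentralSeries P 2 := by
    intro k
    induction k with
    | zero => rw [Subgroup.upperCentralSeries_zero]; exact bot_le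
    | succ k ih => exact fun x hx => h3 (Subgroup.mem_upperCentralSeries_succ_iff.2 fun y =>
        ih (Subgroup.mem_upperCentralSeries_succ_iff.1 hx y))
  exact top_le_iff.1 (hn ▸ hall n)

/-- Higman: squares are central. -/
theorem sq_central (hne : ∃ a b : P, a * b ≠ b * a)
    (h2 : ∃ x y : P, x ≠ y ∧ x ≠ 1 ∧ x * x = 1 ∧ y ≠ 1 ∧ y * y = 1) (x : P) :
    x * x ∈ center P := by
  rw [← Subgroup.upperCentralSeries_one]
  exact upper_sq hP hα 1 (upper_two_eq_top hP hα hne h2 ▸ mem_top x) hne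

/-- Higman: commutators are central. -/
theorem comm_central (hne : ∃ a b : P, a * b ≠ b * a)
    (h2 : ∃ x y : P, x ≠ y ∧ x ≠ 1 ∧ x * x = 1 ∧ y ≠ 1 ∧ y * y = 1) (x y : P) :
    ⁅x, y⁆ ∈ center P := by
  rw [← Subgroup.upperCentralSeries_one]
  exact Subgroup.mem_upperCentralSeries_succ_iff.1 (upper_two_eq_top hP hα hne h2 ▸ mem_top x) y

end CfsgLib.Recog.SuzukiTwo
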