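import Mathlib
import Cfsg.Agent.Recog.SuzukiHigman

/-!
The order of a Suzuki 2-group is the square or the cube of the order of its centre.
-/

set_option autoImplicit false
set_option linter.unusedSectionVars false
set_option linter.style.haveILetI false

namespace CfsgLib.Recog.SuzukiTwo

open Subgroup
open scoped commutatorElement

/-- Polynomial functions of bounded degree on an elementary abelian 2-group. -/
def DegLE {V : Type*} [Group V] : ℕ → (V → ZMod 2) → Prop
  | 0, f => ∀ v w, f v = f w
  | d + 1, f => ∀ e, DegLE d fun v => f (v * e) + f v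

section Deg

variable {V : Type*} [Group V] (hcomm : ∀ a b : V, a * b = b * a)
include hcomm

theorem degLE_succ : ∀ (d : ℕ) {f : V → ZMod 2}, DegLE d f → DegLE (d + 1) f
  | 0, f, h => fun e v w => by
      show f (v * e) + f v = f (w * e) + f w
      rw [h (v * e) (w * e), h v w]
  | d + 1, f, h => fun e => degLE_succ d (h e)

theorem degLE_mono {d d' : ℕ} (h : d ≤ d') {f : V → ZMod 2} (hf : DegLE d f) : DegLE d' f := by
  induction h with
  | refl => exact hf
  | step _ ih => exact degLE_succ hcomm _ ih

theorem degLE_add : ∀ (d : ℕ) {f g : V → ZMod 2}, DegLE d f → DegLE d g →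
    DegLE d fun v => f v + g v
  | 0, f, g, hf, hg => fun v w => by
      show f v + g v = f w + g w
      rw [hf v w, hg v w]
  | d + 1, f, g, hf, hg => fun e => by
      have h := degLE_add d (hf e) (hg e)
      convert h using 2 with v
      ring

theorem degLE_translate : ∀ (d : ℕ) {f : V → ZMod 2}, DegLE d f → ∀ a, DegLE d fun v => f (v * a)
  | 0, f, h, a => fun v w => h _ _
  | d + 1, f, h, a => fun e => by
      have h' := degLE_translate d (h e) a
      convert h' using 2 with v
      dsimp only
      rw [mul_assoc, hcomm e a, ← mul_assoc]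

theorem degLE_const_mul : ∀ (d : ℕ) (c : ZMod 2) {f : V → ZMod 2}, DegLE d f →
    DegLE d fun v => c * f v
  | 0, c, f, h => fun v w => by show c * f v = c * f w; rw [h v w]
  | d + 1, c, f, h => fun e => by
      have h' := degLE_const_mul d c (h e)
      convert h' using 2 with v
      ring

theorem degLE_mul : ∀ (a b : ℕ) {f g : V → ZMod 2}, DegLE a f → DegLE b g →
    DegLE (a + b) fun v => f v * g v
  | 0, b, f, g, hf, hg => by
      have h := degLE_const_mul hcomm b (f 1) hg
      rw [zero_add]
      convert h using 2 with v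
      rw [hf v 1]
  | a + 1, 0, f, g, hf, hg => by
      have h := degLE_const_mul hcomm (a + 1) (g 1) hf
      convert h using 2 with v
      rw [hg v 1, mul_comm]
  | a + 1, b + 1, f, g, hf, hg => fun e => by
      have h1 := degLE_mul (a + 1) b (degLE_translate hcomm _ hf e) (hg e)
      have h2 := degLE_mul a (b + 1) (hf e) hg
      rw [show a + (b + 1) = a + 1 + b by omega] at h2
      have h := degLE_add hcomm _ h1 h2
      have e' : (fun v => f (v * e) * g (v * e) + f v * g v) =
          fun v => f (v * e) * (g (v * e) + g v) + (f (v * e) + f v) * g v := funext fun v => by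
        linear_combination -(CharTwo.add_self_eq_zero (f (v * e) * g v))
      show DegLE (a + 1 + b) fun v => f (v * e) * g (v * e) + f v * g v
      rw [e']
      exact h
  termination_by a b => a + b

theorem degLE_prod {ι : Type*} (s : Finset ι) (f : ι → V → ZMod 2) (hf : ∀ i, DegLE 2 (f i)) :
    DegLE (2 * s.card) fun v => ∏ i ∈ s, f i v := by
  classical
  induction s using Finset.induction_on with
  | empty => simp [DegLE]
  | insert a s ha ih =>
    have h := degLE_mul hcomm 2 _ (hf a) ih
    rw [Finset.card_insert_of_notMem ha, show 2 * (s.card + 1) = 2 + 2 * s.card by omega]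
    convert h using 2 with v
    rw [Finset.prod_insert ha]

/-- The sum over a large subgroup of a function of small degree vanishes. -/
theorem sum_eq_zero [Finite V] (h2 : IsPGroup 2 V) : ∀ (d : ℕ) {f : V → ZMod 2}, DegLE d f →
    ∀ (W : Subgroup V) [Fintype W], 2 ^ (d + 1) ≤ Nat.card W → ∑ v : W, f v = 0
  | 0, f, hf, W, _, hW => by
      obtain ⟨k, hk⟩ := (h2.to_subgroup W).exists_card_eq
      rw [hk] at hW
      have hk1 : 1 ≤ k := (Nat.pow_le_pow_iff_right (by norm_num)).1 hW
      rw [Finset.sum_congr rfl (fun (v : W) _ => hf v 1), Finset.sum_const, Finset.card_univ,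
        ← Nat.card_eq_fintype_card, hk, nsmul_eq_mul, Nat.cast_pow, show ((2 : ℕ) : ZMod 2) = 0 from rfl,
        zero_pow (by omega), zero_mul]
  | d + 1, f, hf, W, _, hW => by
      classical
      haveI : Fact (Nat.Prime 2) := ⟨Nat.prime_two⟩
      obtain ⟨k, hk⟩ := (h2.to_subgroup W).exists_card_eq
      rw [hk] at hW
      have hk1 : d + 2 ≤ k := (Nat.pow_le_pow_iff_right (by norm_num)).1 hW
      obtain ⟨k, rfl⟩ : ∃ k', k = k' + 1 := ⟨k - 1, by omega⟩
      obtain ⟨U0, hU0⟩ := Sylow.exists_subgroup_card_pow_prime (G := W) 2 (n := k)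
        (by rw [hk]; exact pow_dvd_pow 2 (by omega))
      let U := U0.map W.subtype
      have hUW : U ≤ W := Subgroup.map_subtype_le U0
      have hU : Nat.card U = 2 ^ k := by
        rw [← hU0]
        exact (Nat.card_congr (U0.equivMapOfInjective _ W.subtype_injective).toEquiv).symm
      obtain ⟨e, he, heU⟩ : ∃ e ∈ W, e ∉ U := by
        refine SetLike.exists_of_lt (lt_of_le_of_ne hUW fun h => ?_)
        rw [h, hk, pow_succ] at hU
        have : 0 < 2 ^ k := Nat.two_pow_pos k
        omega
      letI := Fintype.ofFinite U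
      let m : U ⊕ U → W := Sum.elim (fun u => ⟨u, hUW u.2⟩) fun u => ⟨u * e, mul_mem (hUW u.2) he⟩
      have hm : Function.Bijective m := by
        have hinj : Function.Injective m := by
          rintro (u | u) (u' | u') h <;> have h' := congrArg Subtype.val h <;>
            simp only [m, Sum.elim_inl, Sum.elim_inr] at h'
          · rw [Subtype.ext h']
          · exact absurd (by rw [show e = (u' : V)⁻¹ * u by rw [h', inv_mul_cancel_left]]
                             exact mul_mem (inv_mem u'.2) u.2) heU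
          · exact absurd (by rw [show e = (u : V)⁻¹ * u' by rw [← h', inv_mul_cancel_left]]
                             exact mul_mem (inv_mem u.2) u'.2) heU
          · rw [Subtype.ext (mul_right_cancel h')]
        refine hinj.bijective_of_nat_card_le (le_of_eq ?_)
        rw [Nat.card_sum, hU, hk, pow_succ]
        omega
      rw [← hm.sum_comp, Fintype.sum_sum_type, ← Finset.sum_add_distrib]
      refine Eq.trans (Finset.sum_congr rfl fun u _ => add_comm _ _) ?_
      exact sum_eq_zero h2 d (hf e) U (by
        rw [hU]; exact Nat.pow_le_pow_right (by norm_num) (by omega))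

end Deg

variable {P : Type*} [Group P] [Finite P] (hP : IsPGroup 2 P) {α : MulAut P} (hα : Trans α)
include hP hα

/-- The order of the quotient by the centre is at most the square of the order of the centre. -/
theorem card_quotient_le (hne : ∃ a b : P, a * b ≠ b * a)
    (h2 : ∃ x y : P, x ≠ y ∧ x ≠ 1 ∧ x * x = 1 ∧ y ≠ 1 ∧ y * y = 1) :
    Nat.card (P ⧸ center P) ≤ Nat.card (center P) ^ 2 := by
  classical
  have hiff : ∀ {z : P}, z ∈ center P ↔ z * z = 1 := center_iff hP hα hne
  have hsq := sq_central hP hα hne h2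
  have hcc := comm_central hP hα hne h2
  letI : CommGroup (center P) :=
    { (inferInstance : Group (center P)) with
      mul_comm := fun a b => Subtype.ext (mem_center_iff.1 b.2 a) }
  letI : Module (ZMod 2) (Additive (center P)) :=
    AddCommGroup.zmodModule (n := 2) fun z => by
      rw [two_nsmul]; exact Subtype.ext (hiff.1 z.toMul.2)
  haveI : Module.Finite (ZMod 2) (Additive (center P)) := Module.Finite.of_finite
  set n := Module.finrank (ZMod 2) (Additive (center P)) with hn
  let b := Module.finBasis (ZMod 2) (Additive (center P))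
  have hq : Nat.card (center P) = 2 ^ n := by
    have h := Module.natCard_eq_pow_finrank (K := ZMod 2) (V := Additive (center P))
    rw [Nat.card_zmod] at h
    exact h
  let sqv : P → Additive (center P) := fun x => Additive.ofMul ⟨x * x, hsq x⟩
  let g : P → P → Additive (center P) := fun y x => Additive.ofMul ⟨⁅y, x⁆, hcc y x⟩
  have hg : ∀ y x x', g y (x * x') = g y x + g y x' := by
    intro y x x'
    apply Additive.toMul.injective
    apply Subtype.ext
    show ⁅y, x * x'⁆ = ⁅y, x⁆ * ⁅y, x'⁆
    calc ⁅y, x * x'⁆ = ⁅y, x⁆ * (x * ⁅y, x'⁆ * x⁻¹) := by simp [commutatorElement_def, mul_assoc]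
      _ = _ := by rw [mem_center_iff.1 (hcc y x') x, mul_inv_cancel_right]
  have hmul : ∀ x y, sqv (x * y) = sqv x + sqv y + g y x := by
    intro x y
    apply Additive.toMul.injective
    apply Subtype.ext
    show x * y * (x * y) = x * x * (y * y) * ⁅y, x⁆
    have hc := mem_center_iff.1 (hcc y x)
    calc x * y * (x * y) = x * (⁅y, x⁆ * (x * y)) * y := by simp [commutatorElement_def, mul_assoc]
      _ = x * ((x * y) * ⁅y, x⁆) * y := by rw [hc]
      _ = x * x * y * (⁅y, x⁆ * y) := by group
      _ = x * x * y * (y * ⁅y, x⁆) := by rw [hc]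
      _ = _ := by group
  have hz : ∀ z ∈ center P, sqv z = 0 ∧ ∀ y, g y z = 0 := fun z hz => ⟨by
    apply Additive.toMul.injective; exact Subtype.ext (hiff.1 hz), fun y => by
    apply Additive.toMul.injective
    exact Subtype.ext (commutatorElement_eq_one_iff_mul_comm.2 (mem_center_iff.1 hz y))⟩
  let s : P ⧸ center P → Additive (center P) := fun v => sqv v.out
  have hs : ∀ x : P, s (QuotientGroup.mk x) = sqv x := by
    intro x
    obtain ⟨⟨z, hz'⟩, he⟩ := QuotientGroup.mk_out_eq_mul (center P) x
    show sqv _ = _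
    rw [he, hmul]
    have h3 : g z x = 0 := by
      apply Additive.toMul.injective
      exact Subtype.ext (commutatorElement_eq_one_iff_mul_comm.2 (mem_center_iff.1 hz' x).symm)
    rw [(hz z hz').1, h3, add_zero, add_zero]
  have hVcomm : ∀ u v : P ⧸ center P, u * v = v * u := by
    intro u v
    obtain ⟨u, rfl⟩ := QuotientGroup.mk_surjective u
    obtain ⟨v, rfl⟩ := QuotientGroup.mk_surjective v
    refine commutatorElement_eq_one_iff_mul_comm.1 ?_
    show QuotientGroup.mk' (center P) u * _ * _ * _ = 1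
    exact (QuotientGroup.eq_one_iff _).2 (hcc u v)
  have hdeg : ∀ j, DegLE 2 fun v => 1 + b.equivFun (s v) j := by
    intro j e a v w
    obtain ⟨e, rfl⟩ := QuotientGroup.mk_surjective e
    obtain ⟨a, rfl⟩ := QuotientGroup.mk_surjective a
    obtain ⟨v, rfl⟩ := QuotientGroup.mk_surjective v
    obtain ⟨w, rfl⟩ := QuotientGroup.mk_surjective w
    simp only [← QuotientGroup.mk_mul, hs, hmul, hg, map_add, Pi.add_apply]
    ring_nf
    simp [show (2 : ZMod 2) = 0 from rfl, show (4 : ZMod 2) = 0 from rfl]
  by_contra hlt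
  push Not at hlt
  rw [hq, ← pow_mul, mul_comm] at hlt
  obtain ⟨m, hm⟩ := (hP.to_quotient (center P)).exists_card_eq
  rw [hm] at hlt
  have hm1 : 2 * n < m := (Nat.pow_lt_pow_iff_right (by norm_num)).1 hlt
  letI := Fintype.ofFinite (P ⧸ center P)
  letI := Fintype.ofFinite (⊤ : Subgroup (P ⧸ center P))
  have h0 := sum_eq_zero hVcomm (hP.to_quotient _) _
    (degLE_prod hVcomm (Finset.univ : Finset (Fin n)) _ hdeg) (⊤ : Subgroup (P ⧸ center P))
    (by
      rw [Subgroup.card_top, hm, Finset.card_univ, Fintype.card_fin]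
      exact Nat.pow_le_pow_right (by norm_num) hm1)
  rw [Finset.sum_eq_single (1 : (⊤ : Subgroup (P ⧸ center P)))] at h0
  · rw [Subgroup.coe_one, ← QuotientGroup.mk_one, hs, (hz 1 (one_mem _)).1, map_zero] at h0
    simp at h0
  · intro v _ hv
    obtain ⟨v, hv'⟩ := v
    obtain ⟨x, rfl⟩ := QuotientGroup.mk_surjective v
    have hx : sqv x ≠ 0 := fun h => hv (Subtype.ext ((QuotientGroup.eq_one_iff x).2
      (hiff.2 (congrArg (fun z : Additive (center P) => ((z.toMul : center P) : P)) h))))
    obtain ⟨j, hj⟩ : ∃ j, b.equivFun (sqv x) j ≠ 0 := by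
      by_contra h
      push Not at h
      exact hx (b.equivFun.injective (by rw [map_zero]; exact funext h))
    refine Finset.prod_eq_zero (Finset.mem_univ j) ?_
    show 1 + b.equivFun (s (QuotientGroup.mk x)) j = 0
    rw [hs, (show ∀ c : ZMod 2, c ≠ 0 → c = 1 by decide) _ hj]
    rfl
  · simp

/-- The order of a nonabelian 2-group with a transitive automorphism and two involutions. -/
theorem card_eq (hne : ∃ a b : P, a * b ≠ b * a)
    (h2 : ∃ x y : P, x ≠ y ∧ x ≠ 1 ∧ x * x = 1 ∧ y ≠ 1 ∧ y * y = 1) :
    Nat.card P = Nat.card (center P) ^ 2 ∨ Nat.card P = Nat.card (center P) ^ 3 := by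
  classical
  haveI : Fact (Nat.Prime 2) := ⟨Nat.prime_two⟩
  have hiff : ∀ {z : P}, z ∈ center P ↔ z * z = 1 := center_iff hP hα hne
  have hsq := sq_central hP hα hne h2
  obtain ⟨n, hn⟩ := (hP.to_subgroup (center P)).exists_card_eq
  obtain ⟨m, hm⟩ := (hP.to_quotient (center P)).exists_card_eq
  have hle := card_quotient_le hP hα hne h2
  have hcard := Subgroup.card_eq_card_quotient_mul_card_subgroup (center P)
  rw [hn, hm, ← pow_mul] at hle
  have hmn : m ≤ n * 2 := (Nat.pow_le_pow_iff_right (by norm_num)).1 hle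
  have hm0 : m ≠ 0 := by
    rintro rfl
    rw [pow_zero, Nat.card_eq_one_iff_unique] at hm
    obtain ⟨a, b, hab⟩ := hne
    obtain ⟨hs, -⟩ := hm
    exact hab (mem_center_iff.1 ((QuotientGroup.eq_one_iff b).1 (Subsingleton.elim _ _)) a)
  -- the fibres of squaring
  let f : P → center P := fun x => ⟨x * x, hsq x⟩
  have hfib : ∀ t t' : center P, t ≠ 1 → t' ≠ 1 →
      Nat.card {x // f x = t} ≤ Nat.card {x // f x = t'} := by
    intro t t' ht ht'
    obtain ⟨i, hi⟩ := hα t t' (fun e => ht (Subtype.ext e)) (hiff.1 t.2)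
      (fun e => ht' (Subtype.ext e)) (hiff.1 t'.2)
    refine Nat.card_le_card_of_injective
      (fun x : {x // f x = t} => (⟨(α ^ i) x.1, Subtype.ext (by
        show (α ^ i) x.1 * (α ^ i) x.1 = t'
        rw [← map_mul, show (x.1 : P) * x.1 = t from congrArg Subtype.val x.2, hi])⟩ : {x // f x = t'}))
      fun x y h => Subtype.ext ((α ^ i).injective (congrArg Subtype.val h))
  letI := Fintype.ofFinite (center P)
  have hsum : Nat.card P = ∑ t : center P, Nat.card {x // f x = t} := by
    rw [← Nat.card_congr (Equiv.sigmaFiberEquiv f), Nat.card_sigma]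
  have hone : Nat.card {x // f x = 1} = Nat.card (center P) := by
    refine Nat.card_congr (Equiv.subtypeEquivRight fun x => ?_)
    show _ ↔ x ∈ center P
    rw [hiff]
    exact ⟨fun h => congrArg Subtype.val h, fun h => Subtype.ext h⟩
  obtain ⟨t0, ht0⟩ : ∃ t : center P, t ≠ 1 := by
    obtain ⟨x, y, -, hx, hx2, -⟩ := h2
    exact ⟨⟨x, hiff.2 hx2⟩, fun e => hx (congrArg Subtype.val e)⟩
  rw [Fintype.sum_eq_add_sum_compl 1, hone, Finset.sum_congr rfl (fun t ht => le_antisymm
      (hfib t t0 (by simpa using ht) ht0) (hfib t0 t ht0 (by simpa using ht))),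
    Finset.sum_const, Finset.card_compl, Finset.card_singleton, smul_eq_mul,
    ← Nat.card_eq_fintype_card, hcard, hm, hn] at hsum
  have h1n : 1 ≤ 2 ^ n := Nat.one_le_two_pow
  have hdvd : 2 ^ n - 1 ∣ (2 ^ m - 1) * 2 ^ n := by
    refine ⟨Nat.card {x // f x = t0}, ?_⟩
    rw [Nat.sub_mul, one_mul]
    omega
  have hd : 2 ^ n - 1 ∣ 2 ^ m - 1 := by
    refine Nat.Coprime.dvd_of_dvd_mul_right ?_ hdvd
    refine Nat.Coprime.pow_right n ?_
    rw [Nat.coprime_two_right]
    have hn0 : n ≠ 0 := by omega
    exact Nat.Even.sub_odd h1n (Nat.even_pow.2 ⟨even_two, hn0⟩) odd_one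
  have hnm : n ∣ m := by
    have hg := Nat.gcd_eq_left hd
    rw [Nat.pow_sub_one_gcd_pow_sub_one] at hg
    have h1 : 2 ^ n.gcd m = 2 ^ n := by
      have : 1 ≤ 2 ^ n.gcd m := Nat.one_le_two_pow
      omega
    exact Nat.pow_right_injective le_rfl h1 ▸ Nat.gcd_dvd_right n m
  obtain ⟨k, rfl⟩ := hnm
  have hk : k = 1 ∨ k = 2 := by
    have hk0 : k ≠ 0 := by rintro rfl; simp at hm0
    have : k ≤ 2 := Nat.le_of_mul_le_mul_left hmn (Nat.pos_of_ne_zero (by rintro rfl; simp at hm0))
    omega
  rw [hcard, hm, hn]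
  rcases hk with rfl | rfl
  · left; rw [mul_one]; ring
  · right; ring

/-- The exponent is four. -/
theorem exponent_eq (hne : ∃ a b : P, a * b ≠ b * a)
    (h2 : ∃ x y : P, x ≠ y ∧ x ≠ 1 ∧ x * x = 1 ∧ y ≠ 1 ∧ y * y = 1) : Monoid.exponent P = 4 := by
  have hiff : ∀ {z : P}, z ∈ center P ↔ z * z = 1 := center_iff hP hα hne
  have hdvd : Monoid.exponent P ∣ 2 ^ 2 := Monoid.exponent_dvd_of_forall_pow_eq_one fun x => by
    rw [show (2 : ℕ) ^ 2 = 2 * 2 from rfl, pow_mul, sq, sq]
    exact hiff.1 (sq_central hP hα hne h2 x)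
  obtain ⟨k, hk, hk'⟩ := (Nat.dvd_prime_pow Nat.prime_two).1 hdvd
  rcases (show k = 2 ∨ k ≤ 1 by omega) with rfl | hk1
  · exact hk'
  obtain ⟨a, b, hab⟩ := hne
  have hx : ∀ x : P, x * x = 1 := fun x => by
    have h := Monoid.pow_exponent_eq_one x
    rw [hk'] at h
    interval_cases k
    · rw [pow_zero, pow_one] at h; rw [h, mul_one]
    · rwa [pow_one, sq] at h
  exact absurd (mem_center_iff.1 (hiff.2 (hx b)) a) hab

end CfsgLib.Recog.SuzukiTwo
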