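import Cfsg.Agent.Recog.RankOne
import Cfsg.Agent.FGSA.ThompsonNil
import Cfsg.Agent.Solvable.PGroupBasic

/-!
Split rank one set-ups, second part: centralisers of subsets fixing three points, inverted
elements act fixed-point-freely on `Q`, nilpotence of `Q`.
-/

set_option autoImplicit false

namespace CfsgLib.Recog.RankOne

open MulAction

variable {G Ω : Type*} [Group G] [MulAction G Ω]

local notation "D[" a "," t "]" => stabilizer G a ⊓ stabilizer G (t • a)

variable {a : Ω} {t : G} {Q : Subgroup G} (hS : Cfsg.IsRankOneSetup G Ω a t Q)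
include hS

theorem commute_of_fix {x q : G} {c : Ω} (hxa : x • a = a) (hq : q ∈ Q) (hc : c ≠ a)
    (hxc : x • c = c) (hxqc : x • q • c = q • c) : x * q = q * x := by
  have : x * q * x⁻¹ = q := by
    refine eq_of_smul_eq hS (hS.conj_mem x hxa q hq) hq hc ?_
    rw [mul_smul, mul_smul, inv_smul_eq_iff.2 hxc.symm, hxqc]
  exact mul_inv_eq_iff_eq_mul.1 this

/-- A subset fixing `p`, `q`, `r` is centralised by an element fixing `p` and taking `q` to `r`. -/
theorem exists_centralizing {X : Set G} {p q r : Ω} (hpq : p ≠ q) (hpr : p ≠ r)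
    (h : ∀ x ∈ X, x • p = p ∧ x • q = q ∧ x • r = r) :
    ∃ z ∈ Subgroup.centralizer X, z • p = p ∧ z • q = r := by
  obtain ⟨g, hgp, hgq⟩ := exists_pair hS (b_ne hS).symm hpq
  have hr : g⁻¹ • r ≠ a := fun he => hpr (by rw [← hgp, ← he, smul_inv_smul])
  obtain ⟨y, hy, hyb⟩ := exists_mem_smul hS hr
  refine ⟨g * y * g⁻¹, ?_, ?_, ?_⟩
  · rw [Subgroup.mem_centralizer_iff]
    intro x hx
    obtain ⟨h1, h2, h3⟩ := h x hx
    have hc := commute_of_fix hS (x := g⁻¹ * x * g) (q := y) (c := t • a) ?_ hy (b_ne hS) ?_ ?_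
    · calc x * (g * y * g⁻¹) = g * ((g⁻¹ * x * g) * y) * g⁻¹ := by group
        _ = g * (y * (g⁻¹ * x * g)) * g⁻¹ := by rw [hc]
        _ = g * y * g⁻¹ * x := by group
    · rw [mul_smul, mul_smul, hgp, h1, inv_smul_eq_iff, hgp]
    · rw [mul_smul, mul_smul, hgq, h2, inv_smul_eq_iff, hgq]
    · rw [hyb, mul_smul, mul_smul, smul_inv_smul, h3]
  · rw [mul_smul, mul_smul, inv_smul_eq_iff.2 hgp.symm, fix_a hS hy, hgp]
  · rw [mul_smul, mul_smul, inv_smul_eq_iff.2 hgq.symm, hyb, smul_inv_smul]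

omit hS in
theorem fix_smul_of_centralizing {X : Set G} {z : G} (hz : z ∈ Subgroup.centralizer X) {p : Ω}
    (hp : ∀ x ∈ X, x • p = p) : ∀ x ∈ X, x • z • p = z • p := by
  intro x hx
  rw [← mul_smul, Subgroup.mem_centralizer_iff.1 hz x hx, mul_smul, hp x hx]

theorem two_transitive_fixed {X : Set G} {b c d : Ω} (hbc : b ≠ c) (hbd : b ≠ d) (hcd : c ≠ d)
    (h : ∀ x ∈ X, x • b = b ∧ x • c = c ∧ x • d = d) {b₁ b₂ c₁ c₂ : Ω}
    (hb : ∀ x ∈ X, x • b₁ = b₁ ∧ x • b₂ = b₂ ∧ x • c₁ = c₁ ∧ x • c₂ = c₂) (hb12 : b₁ ≠ b₂)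
    (hc12 : c₁ ≠ c₂) : ∃ g ∈ Subgroup.centralizer X, g • b₁ = c₁ ∧ g • b₂ = c₂ := by
  obtain ⟨z, hz, hzb⟩ : ∃ z ∈ Subgroup.centralizer X, z • b₁ = c₁ := by
    by_cases he : b₁ = c₁
    · exact ⟨1, one_mem _, by rw [one_smul, he]⟩
    · obtain ⟨p, hp, hp1, hp2⟩ : ∃ p, (∀ x ∈ X, x • p = p) ∧ p ≠ b₁ ∧ p ≠ c₁ := by
        by_cases h1 : b ≠ b₁ ∧ b ≠ c₁
        · exact ⟨b, fun x hx => (h x hx).1, h1⟩
        by_cases h2 : c ≠ b₁ ∧ c ≠ c₁
        · exact ⟨c, fun x hx => (h x hx).2.1, h2⟩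
        refine ⟨d, fun x hx => (h x hx).2.2, ?_, ?_⟩
        · rintro rfl; grind
        · rintro rfl; grind
      obtain ⟨z, hz, -, hzb⟩ := exists_centralizing hS (X := X) (r := c₁) hp1 hp2
        fun x hx => ⟨hp x hx, (hb x hx).1, (hb x hx).2.2.1⟩
      exact ⟨z, hz, hzb⟩
  have h2 : z • b₂ ≠ c₁ := fun he => hb12 (smul_left_cancel z (hzb.trans he.symm))
  obtain ⟨w, hw, hw1, hw2⟩ := exists_centralizing hS (X := X) h2.symm hc12 fun x hx =>
    ⟨(hb x hx).2.2.1, fix_smul_of_centralizing hz (fun y hy => (hb y hy).2.1) x hx,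
      (hb x hx).2.2.2⟩
  exact ⟨w * z, mul_mem hw hz, by rw [mul_smul, hzb, hw1], by rw [mul_smul, hw2]⟩

omit hS in
theorem exists_third {X : Set G} {b c d : Ω} (hbc : b ≠ c) (hbd : b ≠ d) (hcd : c ≠ d)
    (h : ∀ x ∈ X, x • b = b ∧ x • c = c ∧ x • d = d) (p q : Ω) :
    ∃ r : Ω, r ≠ p ∧ r ≠ q ∧ ∀ x ∈ X, x • r = r := by
  by_cases h1 : b ≠ p ∧ b ≠ q
  · exact ⟨b, h1.1, h1.2, fun x hx => (h x hx).1⟩
  by_cases h2 : c ≠ p ∧ c ≠ q
  · exact ⟨c, h2.1, h2.2, fun x hx => (h x hx).2.1⟩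
  exact ⟨d, by rintro rfl; grind, by rintro rfl; grind, fun x hx => (h x hx).2.2⟩

theorem centralizer_stab {X : Set G} (hX : X ⊆ (D[a, t] : Set G)) :
    (Subgroup.centralizer X ⊓ Q) ⊔ (Subgroup.centralizer X ⊓ D[a, t]) =
      Subgroup.centralizer X ⊓ stabilizer G a := by
  refine le_antisymm (sup_le (inf_le_inf_left _ hS.le) (inf_le_inf_left _ inf_le_left)) ?_
  rintro g ⟨hg, hga⟩
  obtain ⟨q, hq, d, hd, rfl⟩ := exists_mul hS hga
  have hqC : q ∈ Subgroup.centralizer X := by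
    rw [Subgroup.mem_centralizer_iff]
    intro x hx
    refine commute_of_fix hS (hX hx).1 hq (b_ne hS) (hX hx).2 ?_
    have := fix_smul_of_centralizing hg (fun y hy => ((hX hy).2 : y • t • a = t • a)) x hx
    rwa [mul_smul, (mem_stabilizer_iff.1 hd.2)] at this
  have hdC : d ∈ Subgroup.centralizer X := by
    have := mul_mem (inv_mem hqC) hg
    rwa [inv_mul_cancel_left] at this
  exact Subgroup.mul_mem_sup ⟨hqC, hq⟩ ⟨hdC, hd⟩

theorem exists_invol_centralizing [Finite G] {X : Set G} (hX : X ⊆ (D[a, t] : Set G))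
    {b c d : Ω} (hbc : b ≠ c) (hbd : b ≠ d) (hcd : c ≠ d)
    (h : ∀ x ∈ X, x • b = b ∧ x • c = c ∧ x • d = d) :
    ∃ s ∈ Cfsg.involutionsIn (stabilizer G a : Set G),
      s ∈ Subgroup.centralizer X ⊓ Q := by
  have hXa : ∀ x ∈ X, x • a = a := fun x hx => (hX hx).1
  have hXb : ∀ x ∈ X, x • t • a = t • a := fun x hx => (hX hx).2
  obtain ⟨g, hg, hga, hgb⟩ := two_transitive_fixed hS hbc hbd hcd h (X := X)
    (fun x hx => ⟨hXa x hx, hXb x hx, hXb x hx, hXa x hx⟩) (b_ne hS).symm (b_ne hS)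
  -- an involution in the centraliser
  have h2 : (2 : ℕ) ∣ Nat.card ↥(Subgroup.centralizer X) := by
    have hord : 2 ∣ orderOf g := by
      rw [← even_iff_two_dvd]
      by_contra ho
      obtain ⟨m, hm⟩ := Nat.not_even_iff_odd.1 ho
      have hgg : (g ^ 2) • a = a := by rw [pow_two, mul_smul, hga, hgb]
      have hfix : (g ^ 2) ^ m • a = a :=
        mem_stabilizer_iff.1 (pow_mem (mem_stabilizer_iff.2 hgg) m)
      have h1 := pow_orderOf_eq_one g
      rw [hm, pow_succ', pow_mul] at h1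
      have := congrArg (· • a) h1
      simp only [mul_smul, hfix, hga, one_smul] at this
      exact b_ne hS this
    exact hord.trans (Subgroup.orderOf_dvd_natCard _ hg)
  obtain ⟨⟨z, hzC⟩, hz⟩ := exists_prime_orderOf_dvd_card' 2 h2
  have hz' : orderOf z = 2 := by rw [← hz, ← Subgroup.orderOf_coe]
  have hz1 : z ≠ 1 := fun h => by simp [h] at hz'
  have hz2 : z * z = 1 := by rw [← pow_two, ← hz', pow_orderOf_eq_one]
  obtain ⟨p, hp⟩ := exists_fix hS hz2
  have hXp : ∀ x ∈ X, x • p = p := fun x hx =>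
    fix_of_commute hS hz1 hz2 hp (Subgroup.mem_centralizer_iff.1 hzC x hx)
  obtain ⟨p', hp', -, hXp'⟩ := exists_third hbc hbd hcd h p p
  obtain ⟨f, hf, hfa, -⟩ := two_transitive_fixed hS hbc hbd hcd h (X := X)
    (fun x hx => ⟨hXp x hx, hXp' x hx, hXa x hx, hXb x hx⟩) hp'.symm (b_ne hS).symm
  obtain ⟨hs1, hs2⟩ := conj_invol hS (g := f) ⟨hz1, hz2⟩
  have hsa : (f * z * f⁻¹) • a = a := by
    rw [mul_smul, mul_smul, inv_smul_eq_iff.2 hfa.symm, hp, hfa]
  exact ⟨_, (mem_involutionsIn hS).2 ⟨hsa, hs1, hs2⟩,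
    (Subgroup.centralizer X).mul_mem ((Subgroup.centralizer X).mul_mem hf hzC) ((Subgroup.centralizer X).inv_mem hf), mem_Q hS hsa hs2⟩

theorem even_centralizer [Finite G] {X : Set G} (hX : X ⊆ (D[a, t] : Set G))
    {b c d : Ω} (hbc : b ≠ c) (hbd : b ≠ d) (hcd : c ≠ d)
    (h : ∀ x ∈ X, x • b = b ∧ x • c = c ∧ x • d = d) :
    Even (Nat.card ↥(Subgroup.centralizer X ⊓ Q)) := by
  obtain ⟨s, hs, hsC⟩ := exists_invol_centralizing hS hX hbc hbd hcd h
  rw [even_iff_two_dvd, ← orderOf_eq_prime (p := 2) (by rw [pow_two]; exact hs.2.2) hs.2.1]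
  exact Subgroup.orderOf_dvd_natCard _ hsC

theorem exists_conj_centralizer [Finite G] {X : Set G} (hX : X ⊆ (D[a, t] : Set G))
    {b c d : Ω} (hbc : b ≠ c) (hbd : b ≠ d) (hcd : c ≠ d)
    (h : ∀ x ∈ X, x • b = b ∧ x • c = c ∧ x • d = d) :
    ∃ k ∈ D[a, t], ∀ x ∈ X, (k * x * k⁻¹) * t = t * (k * x * k⁻¹) := by
  obtain ⟨s, hs, hsC⟩ := exists_invol_centralizing hS hX hbc hbd hcd h
  obtain ⟨s0, r, hs0, -, -, hC⟩ := exists_special hS
  obtain ⟨k, hk, hks⟩ := inverted_transitive hS hs hs0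
  obtain ⟨hkD, -⟩ := (mem_invertedBy_iff hS.mul_self).1 hk
  refine ⟨k⁻¹, inv_mem hkD, fun x hx => ?_⟩
  have hxs := Subgroup.mem_centralizer_iff.1 hsC.1 x hx
  have : k⁻¹ * x * k⁻¹⁻¹ ∈ D[a, t] ⊓ Subgroup.centralizer {t} := by
    rw [hC, inv_inv]
    refine ⟨(D[a, t]).mul_mem ((D[a, t]).mul_mem ((D[a, t]).inv_mem hkD) (hX hx)) hkD,
      Subgroup.mem_centralizer_singleton_iff.2 ?_⟩
    rw [← hks]
    calc k⁻¹ * x * k * (k⁻¹ * s * k) = k⁻¹ * (x * s) * k := by group
      _ = k⁻¹ * (s * x) * k := by rw [hxs]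
      _ = _ := by group
  exact Subgroup.mem_centralizer_singleton_iff.1 this.2

/-- An inverted element of `D` other than the identity has no fixed points in `Q`. -/
theorem inverted_fpf [Finite G] {x : G} (hx : x ∈ Cfsg.invertedBy (D[a, t]) t) (hx1 : x ≠ 1)
    {q : G} (hq : q ∈ Q) (hqx : q * x = x * q) : q = 1 := by
  by_contra hq1
  obtain ⟨hxD, hxt⟩ := (mem_invertedBy_iff hS.mul_self).1 hx
  have hqb : q • t • a ≠ t • a := fun h => hq1 (eq_one_of_mem_D hS hq h)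
  have hxq : x • q • t • a = q • t • a := by
    rw [← mul_smul, ← hqx, mul_smul, mem_stabilizer_iff.1 hxD.2]
  obtain ⟨k, hk, hkc⟩ := exists_conj_centralizer hS (X := {x}) (b := a) (c := t • a)
    (d := q • t • a) (by rintro _ rfl; exact hxD) (b_ne hS).symm
    (smul_ne_a hS hq (b_ne hS)).symm hqb.symm
    (by rintro _ rfl; exact ⟨hxD.1, hxD.2, hxq⟩)
  have h1 := hkc x rfl
  refine hx1 (eq_one_of_conj_inv hS.odd_card hxD (g := (t * k * t)⁻¹ * k) ?_ ?_)
  · exact (D[a, t]).mul_mem ((D[a, t]).inv_mem (t_conj_mem hS hk)) hk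
  · have h2 : t * (k * x * k⁻¹) * t = k * x * k⁻¹ := by
      rw [← h1, mul_assoc, hS.mul_self, mul_one]
    calc (t * k * t)⁻¹ * k * x * ((t * k * t)⁻¹ * k)⁻¹
        = (t * k * t)⁻¹ * (k * x * k⁻¹) * (t * k * t) := by group
      _ = (t * k * t)⁻¹ * (t * (k * x * k⁻¹) * t) * (t * k * t) := by rw [h2]
      _ = (t * k⁻¹ * t) * t * (k * x * k⁻¹) * t * (t * k * t) := by
          rw [mul_inv_rev, mul_inv_rev, t_inv hS]; group
      _ = t * (k⁻¹ * (k * x * k⁻¹) * k) * t := by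
          simp only [mul_assoc, ← mul_assoc t t, hS.mul_self, one_mul]
      _ = t * x * t := by group
      _ = x⁻¹ := hxt

theorem centralizer_inter [Finite G] {x : G} (hx : x ∈ Cfsg.invertedBy (D[a, t]) t) (hx1 : x ≠ 1) :
    Q ⊓ Subgroup.centralizer {x} = ⊥ := by
  rw [eq_bot_iff]
  rintro q ⟨hq, hqc⟩
  exact Subgroup.mem_bot.2 (inverted_fpf hS hx hx1 hq (Subgroup.mem_centralizer_singleton_iff.1 hqc))

variable (h2 : ∃ x y : G, x ≠ 1 ∧ y ≠ 1 ∧ x ≠ y ∧ x * x = 1 ∧ y * y = 1 ∧ x * y = y * x)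

theorem same_fix [Finite G] {x y : G} (hy1 : y ≠ 1) (hy : y * y = 1) (h : x * y = y * x) {p : Ω}
    (hp : y • p = p) : x • p = p := fix_of_commute hS hy1 hy hp h

include h2 in
theorem pPrimeCore_eq [Finite G] : Cfsg.pPrimeCore 2 G = (stabilizer G a).normalCore := by
  have htr := pretransitive hS
  apply le_antisymm
  · refine sSup_le fun N ⟨hN, hcop⟩ => ?_
    have hodd : Odd (Nat.card N) := Nat.coprime_two_right.1 hcop
    rw [Subgroup.normal_le_normalCore]
    obtain ⟨x, y, hx1, hy1, hne, hx, hy, hxy⟩ := h2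
    obtain ⟨p, hp⟩ := exists_fix hS hx
    have hyp : y • p = p := fix_of_commute hS hx1 hx hp hxy.symm
    have hz1 : x * y ≠ 1 := fun h => hne (by
      rw [eq_inv_of_mul_eq_one_left h, inv_eq_of_mul_eq_one_right hy])
    have hz : x * y * (x * y) = 1 := by
      rw [mul_assoc, ← mul_assoc y, ← hxy, mul_assoc x y, hy, mul_one, hx]
    have hzp : (x * y) • p = p := by rw [mul_smul, hyp, hp]
    have key : ∀ w : G, w ≠ 1 → w * w = 1 → w • p = p →
        N ⊓ Subgroup.centralizer {w} ≤ stabilizer G p := fun w hw1 hw hwp g hg =>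
      fix_of_commute hS hw1 hw hwp (Subgroup.mem_centralizer_singleton_iff.1 hg.2)
    have hN' : N ≤ stabilizer G p := le_of_fourGroup hodd hx hy hxy
      (fun h hh => by simpa [inv_eq_of_mul_eq_one_right hx] using hN.conj_mem h hh x)
      (fun h hh => by simpa [inv_eq_of_mul_eq_one_right hy] using hN.conj_mem h hh y)
      (key x hx1 hx hp) (key y hy1 hy hyp) (key _ hz1 hz hzp)
    intro n hn
    obtain ⟨g, hg⟩ := exists_smul_eq G a p
    have := mem_stabilizer_iff.1 (hN' (hN.conj_mem n hn g))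
    rw [mul_smul, mul_smul, ← hg, inv_smul_smul, smul_left_cancel_iff] at this
    exact this
  · refine le_sSup ⟨inferInstance, Nat.coprime_two_right.2 ?_⟩
    refine hS.odd_card.of_dvd_nat (Subgroup.card_dvd_of_le ?_)
    refine le_inf (Subgroup.normalCore_le _) fun g hg => ?_
    have := mem_stabilizer_iff.1 (Subgroup.normalCore_le _
      ((Subgroup.normalCore_normal (stabilizer G a)).conj_mem g hg t))
    rw [mul_smul, mul_smul, t_inv hS, smul_eq_iff_eq_inv_smul, t_inv hS] at this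
    exact this

include h2 in
theorem exists_inverted_ne_one [Finite G] :
    ∃ x ∈ Cfsg.invertedBy (D[a, t]) t, x ≠ 1 := by
  classical
  obtain ⟨x, y, hx1, hy1, hne, hx, hy, hxy⟩ := h2
  obtain ⟨p, hp⟩ := exists_fix hS hx
  have hyp : y • p = p := fix_of_commute hS hx1 hx hp hxy.symm
  haveI := pretransitive hS
  obtain ⟨g, hg⟩ := exists_smul_eq G p a
  have hga : g⁻¹ • a = p := by rw [← hg, inv_smul_smul]
  have hin : ∀ w : G, w ≠ 1 → w * w = 1 → w • p = p →
      g * w * g⁻¹ ∈ Cfsg.involutionsIn (stabilizer G a : Set G) := fun w h1 h2 h3 =>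
    (mem_involutionsIn hS).2 ⟨by rw [mul_smul, mul_smul, hga, h3, hg],
      (conj_invol hS ⟨h1, h2⟩).1, (conj_invol hS ⟨h1, h2⟩).2⟩
  obtain ⟨k, hk, hkk⟩ := inverted_transitive hS (hin x hx1 hx hp) (hin y hy1 hy hyp)
  refine ⟨k, hk, fun h => hne ?_⟩
  rw [h, inv_one, one_mul, mul_one] at hkk
  exact mul_left_cancel (mul_right_cancel hkk)

omit hS in
theorem pow_mem_inverted {D : Subgroup G} {x : G} (h : x ∈ Cfsg.invertedBy D t) (n : ℕ) :
    x ^ n ∈ Cfsg.invertedBy D t :=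
  ⟨D.pow_mem h.1 n, by rw [← MulAut.conj_apply, map_pow, MulAut.conj_apply, h.2, inv_pow]⟩

include h2 in
theorem nilpotent_Q [Finite G] : Group.IsNilpotent Q := by
  obtain ⟨x, hx, hx1⟩ := exists_inverted_ne_one hS h2
  obtain ⟨p, hp, hpx⟩ := Nat.exists_prime_and_dvd (fun h => hx1 (orderOf_eq_one_iff.1 h))
  set y := x ^ (orderOf x / p) with hy
  have hyo : orderOf y = p := orderOf_pow_orderOf_div (orderOf_pos x).ne' hpx
  have hyK := pow_mem_inverted hx (orderOf x / p)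
  have hy1 : y ≠ 1 := fun h => hp.ne_one (by rw [← hyo, h, orderOf_one])
  have hyn : ∀ q : G, q ∈ Q → y * q * y⁻¹ ∈ Q := fun q hq => hS.conj_mem y hyK.1.1 q hq
  let φ : MulAut Q := MulEquiv.ofBijective
    (({ toFun := fun q => ⟨y * q * y⁻¹, hyn q q.2⟩
        map_one' := Subtype.ext (by simp)
        map_mul' := fun u v => Subtype.ext (by simp [mul_assoc]) } : Q →* Q))
    ((Finite.injective_iff_bijective).1 fun u v h => Subtype.ext
      (mul_left_cancel (mul_right_cancel (congrArg Subtype.val h))))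
  have hpow : ∀ (n : ℕ) (q : Q), (((φ ^ n) q : Q) : G) = y ^ n * q * (y ^ n)⁻¹ := by
    intro n
    induction n with
    | zero => intro q; simp
    | succ n ih =>
      intro q
      rw [pow_succ, MulAut.mul_apply, ih]
      show y ^ n * (y * q * y⁻¹) * _ = _
      rw [pow_succ]; group
  refine CfsgLib.ThompsonNil.isNilpotent hp φ ?_ ?_
  · refine MulEquiv.ext fun q => Subtype.ext ?_
    rw [hpow, ← hyo, pow_orderOf_eq_one]; simp
  · intro q hq
    refine Subtype.ext (inverted_fpf hS hyK hy1 q.2 ?_)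
    have : y * (q : G) * y⁻¹ = q := congrArg Subtype.val hq
    exact (mul_inv_eq_iff_eq_mul.1 this).symm

include h2 in
theorem invol_central [Finite G] :
    (∀ s ∈ Cfsg.involutionsIn (stabilizer G a : Set G), s ∈ Q ∧ ∀ x ∈ Q, s * x = x * s) ∧
      ∀ s ∈ Cfsg.involutionsIn (stabilizer G a : Set G),
        ∀ s' ∈ Cfsg.involutionsIn (stabilizer G a : Set G),
          s * s' = 1 ∨ s * s' ∈ Cfsg.involutionsIn (stabilizer G a : Set G) := by
  classical
  haveI := nilpotent_Q hS h2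
  haveI : Fact (Nat.Prime 2) := ⟨Nat.prime_two⟩
  obtain ⟨P⟩ : Nonempty (Sylow 2 Q) := inferInstance
  have hP : (P : Subgroup Q) ≠ ⊥ := P.ne_bot_of_dvd_card (even_iff_two_dvd.1 hS.even_card)
  have hne := CfsgLib.PGroupBasic.inf_center_ne_bot (P : Subgroup Q) hP
  have h2d : 2 ∣ Nat.card ↥((P : Subgroup Q) ⊓ Subgroup.center Q) := by
    obtain ⟨n, hn⟩ := (P.2.to_le inf_le_left : IsPGroup 2 ↥((P : Subgroup Q) ⊓ Subgroup.center Q)).exists_card_eq
    rw [hn]
    refine dvd_pow_self 2 fun h0 => hne ?_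
    rw [h0, pow_zero] at hn
    exact Subgroup.eq_bot_of_card_eq _ hn
  obtain ⟨⟨z, hzP, hzC⟩, hz⟩ := exists_prime_orderOf_dvd_card' 2 h2d
  rw [← Subgroup.orderOf_coe, ← Subgroup.orderOf_coe] at hz
  have hz' : orderOf (z : G) = 2 := hz
  have hzI : (z : G) ∈ Cfsg.involutionsIn (stabilizer G a : Set G) := by
    refine (mem_involutionsIn hS).2 ⟨fix_a hS z.2, fun h => by simp [h] at hz', ?_⟩
    rw [← pow_two, ← hz', pow_orderOf_eq_one]
  have key : ∀ s ∈ Cfsg.involutionsIn (stabilizer G a : Set G),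
      s ∈ Q ∧ ∀ x ∈ Q, s * x = x * s := by
    intro s hs
    obtain ⟨k, hk, rfl⟩ := inverted_transitive hS hzI hs
    have hka : k • a = a := hk.1.1
    refine ⟨mem_Q hS hs.1 hs.2.2, fun x hx => ?_⟩
    have := congrArg Subtype.val (Subgroup.mem_center_iff.1 hzC
      ⟨k * x * k⁻¹, hS.conj_mem k hka x hx⟩)
    simp only [Subgroup.coe_mul] at this
    calc k⁻¹ * z * k * x = k⁻¹ * (z * (k * x * k⁻¹)) * k := by group
      _ = k⁻¹ * ((k * x * k⁻¹) * z) * k := by rw [this]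
      _ = x * (k⁻¹ * z * k) := by group
  refine ⟨key, fun s hs s' hs' => ?_⟩
  rw [or_iff_not_imp_left]
  intro hne1
  refine (mem_involutionsIn hS).2 ⟨?_, hne1, ?_⟩
  · rw [mul_smul, ((mem_involutionsIn hS).1 hs').1, ((mem_involutionsIn hS).1 hs).1]
  · have hc := (key s hs).2 s' (key s' hs').1
    calc s * s' * (s * s') = s * (s' * s) * s' := by group
      _ = s * s * (s' * s') := by rw [← hc]; group
      _ = 1 := by rw [hs.2.2, hs'.2.2, one_mul]

theorem subsets_conj [Finite G] {X : Set G}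
    (hX : X ⊆ ((D[a, t] ⊓ Subgroup.centralizer {t} : Subgroup G) : Set G)) {g : G}
    (hY : (fun x => g * x * g⁻¹) '' X ⊆ ((D[a, t] ⊓ Subgroup.centralizer {t} : Subgroup G) : Set G)) :
    ∃ v ∈ D[a, t] ⊓ Subgroup.centralizer {t},
      (fun x => v * x * v⁻¹) '' X = (fun x => g * x * g⁻¹) '' X := by
  set Y := (fun x => g * x * g⁻¹) '' X with hYdef
  obtain ⟨c0, hc0⟩ := exists_fix hS hS.mul_self
  have hc0a : c0 ≠ a := fun h => b_ne hS (by rw [h] at hc0; exact hc0)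
  have hc0b : c0 ≠ t • a := by
    intro h
    refine b_ne hS ?_
    rw [h, t_b hS] at hc0
    exact hc0.symm
  have hfixY : ∀ y ∈ Y, y • a = a ∧ y • t • a = t • a ∧ y • c0 = c0 := fun y hy =>
    ⟨(hY hy).1.1, (hY hy).1.2, fix_of_commute hS hS.ne_one hS.mul_self hc0
      (Subgroup.mem_centralizer_singleton_iff.1 (hY hy).2)⟩
  have hgY : ∀ y ∈ Y, y • g • a = g • a ∧ y • g • t • a = g • t • a ∧ y • a = a ∧ y • t • a = t • a := by
    rintro _ ⟨x, hx, rfl⟩
    refine ⟨?_, ?_, (hfixY _ ⟨x, hx, rfl⟩).1, (hfixY _ ⟨x, hx, rfl⟩).2.1⟩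
    · show (g * x * g⁻¹) • g • a = g • a
      rw [mul_smul, mul_smul, inv_smul_smul, mem_stabilizer_iff.1 (hX hx).1.1]
    · show (g * x * g⁻¹) • g • t • a = g • t • a
      rw [mul_smul, mul_smul, inv_smul_smul, mem_stabilizer_iff.1 (hX hx).1.2]
  obtain ⟨z, hz, hza, hzb⟩ := two_transitive_fixed hS (b_ne hS).symm hc0a.symm hc0b.symm hfixY hgY
    (fun h => (b_ne hS).symm (smul_left_cancel g h)) (b_ne hS).symm
  have hg' : z * g ∈ D[a, t] := ⟨by
    show (z * g) • a = a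
    rw [mul_smul, hza], by
    show (z * g) • t • a = t • a
    rw [mul_smul, hzb]⟩
  obtain ⟨hk, hc⟩ := invPart_spec hS.mul_self (fun x hx => t_conj_mem hS hx) hS.odd_card hg'
  obtain ⟨hkD, hkt⟩ := (mem_invertedBy_iff hS.mul_self).1 hk
  set k := invPart t (z * g)
  set c := z * g * k⁻¹ with hcdef
  refine ⟨c, hc, ?_⟩
  rw [hYdef]
  refine Set.image_congr fun x hx => ?_
  have hy : g * x * g⁻¹ ∈ Y := ⟨x, hx, rfl⟩
  have hzy := Subgroup.mem_centralizer_iff.1 hz _ hy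
  have hxt := Subgroup.mem_centralizer_singleton_iff.1 (hX hx).2
  have hct := Subgroup.mem_centralizer_singleton_iff.1 hc.2
  have hyt := Subgroup.mem_centralizer_singleton_iff.1 (hY hy).2
  have h1 : k * x * k⁻¹ = c⁻¹ * (g * x * g⁻¹) * c := by
    calc k * x * k⁻¹ = c⁻¹ * (z * (g * x * g⁻¹) * z⁻¹) * c := by rw [hcdef]; group
      _ = c⁻¹ * (g * x * g⁻¹ * z * z⁻¹) * c := by rw [← hzy]
      _ = _ := by rw [mul_inv_cancel_right]
  have h2 : Commute t (k * x * k⁻¹) := by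
    rw [h1]
    exact (((show Commute t c from hct.symm).inv_right).mul_right
      (show Commute t (g * x * g⁻¹) from hyt.symm)).mul_right (show Commute t c from hct.symm)
  have hki : t * k⁻¹ * t = k := by
    have := congrArg Inv.inv hkt
    simpa [t_inv hS, mul_assoc] using this
  have h3 : k⁻¹ * x * k = k * x * k⁻¹ := by
    calc k⁻¹ * x * k = (t * k * t) * (t * x * t) * (t * k⁻¹ * t) := by
          rw [hkt, hki, ← hxt, mul_assoc x t t, hS.mul_self, mul_one]
      _ = t * (k * x * k⁻¹) * t := by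
          simp only [mul_assoc, ← mul_assoc t t, hS.mul_self, one_mul]
      _ = _ := by rw [h2.eq, mul_assoc, hS.mul_self, mul_one]
  have h4 : x * (k * k) = k * k * x := by
    calc x * (k * k) = k * (k⁻¹ * x * k) * k := by group
      _ = k * (k * x * k⁻¹) * k := by rw [h3]
      _ = _ := by group
  have h5 := commute_of_sq (odd_orderOf hS.odd_card hkD) h4
  have h6 : k * x * k⁻¹ = x := by rw [← h5, mul_inv_cancel_right]
  show c * x * c⁻¹ = g * x * g⁻¹
  calc c * x * c⁻¹ = c * (k * x * k⁻¹) * c⁻¹ := by rw [h6]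
    _ = _ := by rw [h1]; group

/-- An involution interchanging `a` and `t • a` is conjugate to `t` inside `D`. -/
theorem exists_conj_t [Finite G] {z : G} (hz : z * z = 1) (hza : z • a = t • a) :
    ∃ d ∈ D[a, t], d * z * d⁻¹ = t := by
  have hzb : z • t • a = a := by rw [← hza, ← mul_smul, hz, one_smul]
  set k := t * z with hk
  have hkD : k ∈ D[a, t] := ⟨by
    show (t * z) • a = a
    rw [mul_smul, hza, t_b hS], by
    show (t * z) • t • a = t • a
    rw [mul_smul, hzb]⟩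
  have hkt : t * k * t⁻¹ = k⁻¹ := by
    rw [hk, mul_inv_rev, t_inv hS, inv_eq_of_mul_eq_one_right hz, ← mul_assoc t t, hS.mul_self,
      one_mul]
  set r := oddRoot k
  have hr : r * r = k := oddRoot_sq (odd_orderOf hS.odd_card hkD)
  have hrt : t * r * t⁻¹ = r⁻¹ := by
    rw [← oddRoot_conj, hkt, oddRoot_inv]
  refine ⟨r, oddRoot_mem hkD, ?_⟩
  have hz' : z = t * (r * r) := by rw [hr, hk, ← mul_assoc, hS.mul_self, one_mul]
  calc r * z * r⁻¹ = r * t * r := by rw [hz']; group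
    _ = t * (t⁻¹ * r * t) * r := by group
    _ = t := by
        rw [t_inv hS] at hrt ⊢
        rw [hrt, inv_mul_cancel_right]

include h2 in
theorem product_invol [Finite G] {u v : G} (hu1 : u ≠ 1) (hu2 : u * u = 1) (hv2 : v * v = 1)
    (hv1 : v ≠ 1) (hx : (u * v) * (u * v) ≠ 1) :
    (∃ g : G, ∃ u' ∈ Cfsg.involutionsIn (stabilizer G a : Set G), g * (u * v) * g⁻¹ = u' * t) ∧
      Odd (Nat.card ↥(Subgroup.centralizer {u * v})) := by
  obtain ⟨p, hp⟩ := exists_fix hS hu2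
  haveI := pretransitive hS
  have hvp : v • p ≠ p := by
    intro hvp
    obtain ⟨g, hg⟩ := exists_smul_eq G p a
    have hga : g⁻¹ • a = p := by rw [← hg, inv_smul_smul]
    have hin : ∀ w : G, w ≠ 1 → w * w = 1 → w • p = p →
        g * w * g⁻¹ ∈ Cfsg.involutionsIn (stabilizer G a : Set G) := fun w h1 h2 h3 =>
      (mem_involutionsIn hS).2 ⟨by rw [mul_smul, mul_smul, hga, h3, hg],
        (conj_invol hS ⟨h1, h2⟩).1, (conj_invol hS ⟨h1, h2⟩).2⟩
    apply hx
    have he : g * (u * v) * g⁻¹ = g * u * g⁻¹ * (g * v * g⁻¹) := by group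
    have hsq : g * (u * v) * g⁻¹ * (g * (u * v) * g⁻¹) = 1 := by
      rcases (invol_central hS h2).2 _ (hin u hu1 hu2 hp) _ (hin v hv1 hv2 hvp) with h | h
      · rw [he, h, one_mul]
      · rw [he]; exact h.2.2
    exact conj_eq_one_iff.1 (show g * (u * v * (u * v)) * g⁻¹ = 1 by rw [← hsq]; group)
  constructor
  · obtain ⟨g, hgp, hgv⟩ := exists_pair hS hvp.symm (b_ne hS).symm
    have hz : (g * v * g⁻¹) • a = t • a := by
      rw [mul_smul, mul_smul, inv_smul_eq_iff.2 hgp.symm, hgv]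
    obtain ⟨d, hd, hdz⟩ := exists_conj_t hS (conj_invol hS ⟨hv1, hv2⟩).2 hz
    have hga : (d * g) • p = a := by rw [mul_smul, hgp, mem_stabilizer_iff.1 hd.1]
    refine ⟨d * g, d * g * u * (d * g)⁻¹, (mem_involutionsIn hS).2
      ⟨?_, (conj_invol hS ⟨hu1, hu2⟩).1, (conj_invol hS ⟨hu1, hu2⟩).2⟩, ?_⟩
    · rw [mul_smul, mul_smul (d * g) u, inv_smul_eq_iff.2 hga.symm, hp, hga]
    · rw [show d * g * (u * v) * (d * g)⁻¹ = d * g * u * (d * g)⁻¹ * (d * (g * v * g⁻¹) * d⁻¹) by group,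
        hdz]
  · rw [← Nat.not_even_iff_odd, even_iff_two_dvd]
    intro h2d
    obtain ⟨⟨z, hzC⟩, hzo⟩ := exists_prime_orderOf_dvd_card' 2 h2d
    rw [← Subgroup.orderOf_coe] at hzo
    have hz1 : z ≠ 1 := fun h => by simp [h] at hzo
    have hzo' : orderOf z = 2 := hzo
    have hz2 : z * z = 1 := by rw [← pow_two, ← hzo', pow_orderOf_eq_one]
    have hzx : u * v * z = z * (u * v) := (Subgroup.mem_centralizer_singleton_iff.1 hzC).symm
    obtain ⟨p0, hp0⟩ := exists_fix hS hz2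
    have hxp : (u * v) • p0 = p0 := fix_of_commute hS hz1 hz2 hp0 hzx
    set x := u * v with hxdef
    have hux : u * x * u⁻¹ = x⁻¹ := by
      rw [hxdef, mul_inv_rev, inv_eq_of_mul_eq_one_right hu2, inv_eq_of_mul_eq_one_right hv2,
        ← mul_assoc, hu2, one_mul]
    set q := u • p0 with hq
    have hxu : x * u = u * x⁻¹ := by
      rw [← hux, inv_eq_of_mul_eq_one_right hu2]
      simp only [← mul_assoc, hu2, one_mul]
    have hxq : x • q = q := by
      rw [hq, ← mul_smul, hxu, mul_smul, inv_smul_eq_iff.2 hxp.symm]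
    have hqp : q ≠ p0 := by
      intro h
      have hpp : p0 = p := fix_unique hS hu1 hu2 h hp
      rw [hpp, hxdef, mul_smul] at hxp
      exact hvp (by
        have := congrArg (u • ·) hxp
        simp only [← mul_smul u u, hu2, one_smul, hp] at this
        exact this)
    have hzq : z • q ≠ q := fun h => hqp (fix_unique hS hz1 hz2 h hp0)
    have hzp : z • q ≠ p0 := fun h => hqp (by
      conv_rhs at h => rw [← hp0]
      exact smul_left_cancel z h)
    have hxz : x • z • q = z • q := by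
      rw [← mul_smul, hzx, mul_smul, hxq]
    obtain ⟨g, hgp, hgq⟩ := exists_pair hS hqp.symm (b_ne hS).symm
    have hu' : (g * u * g⁻¹) • a = t • a := by
      rw [mul_smul, mul_smul, inv_smul_eq_iff.2 hgp.symm, ← hq, hgq]
    obtain ⟨d, hd, hdu⟩ := exists_conj_t hS (conj_invol hS ⟨hu1, hu2⟩).2 hu'
    set h := d * g with hh
    have hhu : h * u * h⁻¹ = t := by rw [← hdu, hh]; group
    have hha : h • p0 = a := by rw [hh, mul_smul, hgp, mem_stabilizer_iff.1 hd.1]
    have hhb : h • q = t • a := by rw [hh, mul_smul, hgq, mem_stabilizer_iff.1 hd.2]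
    have hfix : ∀ w : Ω, x • w = w → (h * x * h⁻¹) • h • w = h • w := fun w hw => by
      rw [mul_smul, mul_smul, inv_smul_smul, hw]
    have hX : h * x * h⁻¹ ∈ Cfsg.invertedBy (D[a, t]) t := by
      refine ⟨⟨by
        show (h * x * h⁻¹) • a = a
        rw [← hha]; exact hfix p0 hxp, by
        show (h * x * h⁻¹) • t • a = t • a
        rw [← hhb]; exact hfix q hxq⟩, ?_⟩
      calc t * (h * x * h⁻¹) * t⁻¹ = h * (u * x * u⁻¹) * h⁻¹ := by rw [← hhu]; group
        _ = _ := by rw [hux]; group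
    have hne : h * x * h⁻¹ ≠ 1 := fun e => hx (by rw [conj_eq_one_iff.1 e, one_mul])
    obtain ⟨r, hr, hrb⟩ := exists_mem_smul hS (c := h • z • q) (fun e => hzp (by
      rw [← hha] at e; exact smul_left_cancel h e))
    have hcomm := commute_of_fix hS (x := h * x * h⁻¹) hX.1.1 hr (b_ne hS) hX.1.2
      (by rw [hrb]; exact hfix _ hxz)
    have hr1 := inverted_fpf hS hX hne hr hcomm.symm
    rw [hr1, one_smul, ← hhb] at hrb
    exact hzq (smul_left_cancel h hrb).symm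

end CfsgLib.Recog.RankOne
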